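import Mathlib

/-!
# Presentation of the order generated by a symmetric polynomial

`f = X Y - q` and `h(X, Y)` with `X ^ D h = P(X)` modulo `f`.
-/

set_option autoImplicit false
set_option linter.all false

open MvPolynomial

noncomputable section

namespace GrothLib.WeilOrd

variable (q : ℤ)

/-- The relation `X Y = q`. -/
def fq : MvPolynomial (Fin 2) ℤ := X 0 * X 1 - C q

/-- A polynomial in the first variable. -/
def ofX : Polynomial ℤ →ₐ[ℤ] MvPolynomial (Fin 2) ℤ := Polynomial.aeval (X 0)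

/-- A polynomial in the second variable. -/
def ofY : Polynomial ℤ →ₐ[ℤ] MvPolynomial (Fin 2) ℤ := Polynomial.aeval (X 1)

/-- Setting the first variable to zero. -/
def tau : MvPolynomial (Fin 2) ℤ →ₐ[ℤ] Polynomial ℤ := MvPolynomial.aeval ![0, Polynomial.X]

/-- The Laurent substitution `Y = q / X`. -/
def psi : MvPolynomial (Fin 2) ℤ →ₐ[ℤ] RatFunc ℚ := MvPolynomial.aeval ![RatFunc.X, (q : RatFunc ℚ) / RatFunc.X]

theorem psi_fq : psi q (fq q) = 0 := by
  simp [psi, fq, mul_div_cancel₀ _ (RatFunc.X_ne_zero (K := ℚ))]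

theorem psi_ofX (G : Polynomial ℤ) :
    psi q (ofX G) = algebraMap (Polynomial ℚ) (RatFunc ℚ) (G.map (Int.castRingHom ℚ)) := by
  rw [ofX, ← Polynomial.aeval_algHom_apply]
  induction G using Polynomial.induction_on' with
  | add p r hp hr => rw [map_add, hp, hr, Polynomial.map_add, map_add]
  | monomial n a => simp [psi, ← Polynomial.C_mul_X_pow_eq_monomial, RatFunc.algebraMap_X]

theorem exists_decomp (c : MvPolynomial (Fin 2) ℤ) : ∃ c' : MvPolynomial (Fin 2) ℤ, c = X 0 * c' + ofY (tau c) := by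
  induction c using MvPolynomial.induction_on with
  | C a => exact ⟨0, by simp [tau, ofY]⟩
  | add a b ha hb =>
    obtain ⟨a', ha⟩ := ha
    obtain ⟨b', hb⟩ := hb
    refine ⟨a' + b', ?_⟩
    conv_lhs => rw [ha, hb]
    rw [map_add, map_add]; ring
  | mul_X a i ha =>
    obtain ⟨a', ha⟩ := ha
    fin_cases i
    · exact ⟨a, by simp [tau, mul_comm]⟩
    · refine ⟨a' * X 1, ?_⟩
      conv_lhs => rw [ha]
      simp [tau, ofY]; ring

theorem exists_reduce (g : MvPolynomial (Fin 2) ℤ) :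
    ∃ (N : ℕ) (G : Polynomial ℤ), X 0 ^ N * g - ofX G ∈ Ideal.span {fq q} := by
  induction g using MvPolynomial.induction_on with
  | C a => exact ⟨0, Polynomial.C a, by simp [ofX]⟩
  | add a b ha hb =>
    obtain ⟨N, G, ha⟩ := ha
    obtain ⟨M, H, hb⟩ := hb
    refine ⟨N + M, Polynomial.X ^ M * G + Polynomial.X ^ N * H, ?_⟩
    have h := add_mem (Ideal.mul_mem_left _ (X 0 ^ M) ha) (Ideal.mul_mem_left _ (X 0 ^ N) hb)
    convert h using 1
    simp [ofX, pow_add]; ring
  | mul_X a i ha =>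
    obtain ⟨N, G, ha⟩ := ha
    fin_cases i
    · refine ⟨N, Polynomial.X * G, ?_⟩
      have h := Ideal.mul_mem_left _ (X 0 : MvPolynomial (Fin 2) ℤ) ha
      convert h using 1
      simp [ofX]; ring
    · refine ⟨N + 1, Polynomial.C q * G, ?_⟩
      have h := add_mem (Ideal.mul_mem_left _ (C q : MvPolynomial (Fin 2) ℤ) ha)
        (Ideal.mul_mem_left _ (X 0 ^ N * a) (Ideal.mem_span_singleton_self (fq q)))
      convert h using 1
      simp [ofX, fq, pow_succ]; ring

variable {q} (hq : q ≠ 0)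

include hq in
theorem cancel_X0 {g : MvPolynomial (Fin 2) ℤ} (hg : X 0 * g ∈ Ideal.span {fq q}) : g ∈ Ideal.span {fq q} := by
  obtain ⟨c, hc⟩ := Ideal.mem_span_singleton'.1 hg
  obtain ⟨c', hc'⟩ := exists_decomp c
  have h0 : tau c = 0 := by
    have h := congrArg tau hc
    simp [tau, fq, hq] at h
    exact h
  rw [h0, map_zero, add_zero] at hc'
  exact Ideal.mem_span_singleton'.2 ⟨c', mul_left_cancel₀ (X_ne_zero 0) (by rw [← mul_assoc, ← hc', hc])⟩

include hq in
theorem cancel_X0_pow {g : MvPolynomial (Fin 2) ℤ} : ∀ N : ℕ, X 0 ^ N * g ∈ Ideal.span {fq q} → g ∈ Ideal.span {fq q}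
  | 0, h => by simpa using h
  | N + 1, h => cancel_X0_pow N (cancel_X0 hq (by rw [← mul_assoc, ← pow_succ']; exact h))

include hq in
theorem mem_span_fq_iff (g : MvPolynomial (Fin 2) ℤ) : g ∈ Ideal.span {fq q} ↔ psi q g = 0 := by
  refine ⟨fun h => ?_, fun h => ?_⟩
  · obtain ⟨c, rfl⟩ := Ideal.mem_span_singleton'.1 h
    rw [map_mul, psi_fq, mul_zero]
  · obtain ⟨N, G, hG⟩ := exists_reduce q g
    obtain ⟨c, hc⟩ := Ideal.mem_span_singleton'.1 hG
    have h2 := congrArg (psi q) hc
    rw [map_mul, psi_fq, mul_zero, map_sub, map_mul, h, mul_zero, zero_sub, psi_ofX] at h2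
    have hG0 : G = 0 := Polynomial.map_injective _ (RingHom.injective_int _)
      (RatFunc.algebraMap_injective ℚ (by rw [Polynomial.map_zero, map_zero]; exact neg_eq_zero.1 h2.symm))
    rw [hG0, map_zero, sub_zero] at hG
    exact cancel_X0_pow hq N hG

theorem fq_ne_zero : fq q ≠ 0 := fun h => by
  have := congrArg (MvPolynomial.aeval ![(1 : ℤ), q + 1]) h
  simp [fq] at this

/-- The symmetry of the coefficients. -/
def IsSymm (q ε : ℤ) (D : ℕ) (P : Polynomial ℤ) : Prop :=
  ∀ r ≤ D, P.coeff (D - r) = ε * q ^ r * P.coeff (D + r)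

/-- The canonical `h`. -/
def hcan (ε : ℤ) (D : ℕ) (P : Polynomial ℤ) : MvPolynomial (Fin 2) ℤ :=
  ∑ r ∈ Finset.range (D + 1), C (P.coeff (D + r)) * X 0 ^ r +
    ∑ r ∈ Finset.range D, C (ε * P.coeff (D + (r + 1))) * X 1 ^ (r + 1)

variable {ε : ℤ} {D : ℕ} {P : Polynomial ℤ}

include hq in
theorem hcan_spec (hdeg : P.natDegree ≤ 2 * D) (hs : IsSymm q ε D P) :
    X 0 ^ D * hcan ε D P - ofX P ∈ Ideal.span {fq q} := by
  rw [mem_span_fq_iff hq, map_sub, sub_eq_zero]
  have hP : P = ∑ i ∈ Finset.range (D + (D + 1)), Polynomial.C (P.coeff i) * Polynomial.X ^ i :=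
    P.as_sum_range_C_mul_X_pow' (by omega)
  conv_rhs => rw [hP, map_sum, map_sum, Finset.sum_range_add, ← Finset.sum_range_reflect]
  simp only [hcan, map_mul, map_pow, map_add, map_sum, mul_add, Finset.mul_sum]
  rw [add_comm]
  refine congrArg₂ (· + ·) (Finset.sum_congr rfl fun r hr => ?_) (Finset.sum_congr rfl fun r hr => ?_)
  · have hrD : r < D := Finset.mem_range.1 hr
    rw [show D - 1 - r = D - (r + 1) by omega, hs (r + 1) (by omega)]
    have hD : (RatFunc.X : RatFunc ℚ) ^ D = RatFunc.X ^ (D - (r + 1)) * RatFunc.X ^ (r + 1) := by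
      rw [← pow_add]; congr 1; omega
    simp [psi, ofX, div_pow]
    rw [hD]
    field_simp [RatFunc.X_ne_zero]
  · simp [psi, ofX, pow_add]
    ring

theorem tau_hcan : tau (hcan ε D P) = Polynomial.C (P.coeff D) +
    ∑ r ∈ Finset.range D, Polynomial.C (ε * P.coeff (D + (r + 1))) * Polynomial.X ^ (r + 1) := by
  simp only [hcan, map_add, map_sum, Finset.sum_range_succ']
  simp [tau]

include hq in
theorem dvd_of_tau_mul (hm : P.Monic) (hdeg : P.natDegree = 2 * D) (hε : ε * ε = 1) {b : Polynomial ℤ}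
    (h : Polynomial.C q ∣ tau (hcan ε D P) * b) : Polynomial.C q ∣ b := by
  classical
  let S : Polynomial ℤ := tau (hcan ε D P)
  obtain ⟨u, hu, hS⟩ : ∃ u : ℤ, IsUnit u ∧ (Polynomial.C u * S).Monic := by
    rcases Nat.eq_zero_or_pos D with rfl | hD
    · refine ⟨1, isUnit_one, ?_⟩
      rw [map_one, one_mul]
      simp only [S, tau_hcan, Finset.range_zero, Finset.sum_empty, add_zero]
      have : P.coeff 0 = 1 := by
        have := hm.coeff_natDegree
        rwa [hdeg] at this
      simp [this]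
    · refine ⟨ε, IsUnit.of_mul_eq_one ε hε, ?_⟩
      refine Polynomial.monic_of_natDegree_le_of_coeff_eq_one D ?_ ?_
      · refine (Polynomial.natDegree_C_mul_le _ _).trans ?_
        simp only [S, tau_hcan]
        refine (Polynomial.natDegree_add_le _ _).trans (max_le (by simp) ?_)
        refine Polynomial.natDegree_sum_le_of_forall_le _ _ fun r hr => ?_
        exact (Polynomial.natDegree_C_mul_X_pow_le _ _).trans (Finset.mem_range.1 hr)
      · simp only [S, tau_hcan, Polynomial.coeff_C_mul, Polynomial.coeff_add, Polynomial.finset_sum_coeff,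
          Polynomial.coeff_X_pow, Polynomial.coeff_C]
        rw [if_neg (by omega), zero_add, Finset.sum_eq_single (D - 1) (fun r hr hne => by rw [if_neg (by omega), mul_zero])
          (fun hn => absurd (Finset.mem_range.2 (by omega)) hn), if_pos (by omega), mul_one,
          show D + (D - 1 + 1) = P.natDegree by omega, hm.coeff_natDegree, mul_one, hε]
  have h2 : (Polynomial.C u * S).map (Int.castRingHom (ZMod q.natAbs)) * b.map (Int.castRingHom (ZMod q.natAbs)) = 0 := by
    obtain ⟨c, hc⟩ := h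
    rw [← Polynomial.map_mul, mul_assoc, hc, Polynomial.map_mul, Polynomial.map_mul, Polynomial.map_C (f := Int.castRingHom (ZMod q.natAbs)) (a := q)]
    simp [(ZMod.intCast_zmod_eq_zero_iff_dvd q q.natAbs).2 (Int.natAbs_dvd.2 dvd_rfl)]
  have h3 := (hS.map (Int.castRingHom (ZMod q.natAbs))).mul_right_eq_zero_iff.1 h2
  refine Polynomial.C_dvd_iff_dvd_coeff _ _ |>.2 fun i => ?_
  have h4 := congrArg (fun p => p.coeff i) h3
  simp only [Polynomial.coeff_map, eq_intCast, Polynomial.coeff_zero] at h4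
  exact Int.natAbs_dvd.1 ((ZMod.intCast_zmod_eq_zero_iff_dvd _ _).1 h4)

include hq in
/-- The first variable is regular modulo `(f, h)`. -/
theorem cancel_X0_pair (hm : P.Monic) (hdeg : P.natDegree = 2 * D) (hε : ε * ε = 1) {u : MvPolynomial (Fin 2) ℤ}
    (hu : X 0 * u ∈ Ideal.span {fq q, hcan ε D P}) : u ∈ Ideal.span {fq q, hcan ε D P} := by
  set h := hcan ε D P
  obtain ⟨a, b, hab⟩ := Ideal.mem_span_pair.1 hu
  obtain ⟨a', ha'⟩ := exists_decomp a
  obtain ⟨b', hb'⟩ := exists_decomp b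
  obtain ⟨h', hh'⟩ := exists_decomp h
  have h0 : tau b * tau h = Polynomial.C q * tau a := by
    have e := congrArg tau hab
    simp [tau, fq] at e
    simp [tau]
    linear_combination e
  obtain ⟨c, hc⟩ : Polynomial.C q ∣ tau b := dvd_of_tau_mul hq hm hdeg hε ⟨tau a, by rw [mul_comm]; exact h0⟩
  have hac : tau a = c * tau h := by
    refine mul_left_cancel₀ (Polynomial.C_ne_zero.2 hq) ?_
    rw [← h0, hc]; ring
  rw [hc, map_mul, show ofY (Polynomial.C q) = C q by simp [ofY]] at hb'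
  rw [hac, map_mul] at ha'
  refine Ideal.mem_span_pair.2 ⟨a' - h' * ofY c, b' + X 1 * ofY c, mul_left_cancel₀ (X_ne_zero 0) ?_⟩
  rw [← hab, ha', hb']
  conv_rhs => arg 1; arg 1; arg 2; arg 2; rw [show ofY (tau h) = h - X 0 * h' from eq_sub_of_add_eq' hh'.symm]
  simp only [fq]
  ring

include hq in
theorem cancel_X0_pow_pair (hm : P.Monic) (hdeg : P.natDegree = 2 * D) (hε : ε * ε = 1) {u : MvPolynomial (Fin 2) ℤ} :
    ∀ N : ℕ, X 0 ^ N * u ∈ Ideal.span {fq q, hcan ε D P} → u ∈ Ideal.span {fq q, hcan ε D P}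
  | 0, hu => by simpa using hu
  | N + 1, hu => cancel_X0_pow_pair hm hdeg hε N
      (cancel_X0_pair hq hm hdeg hε (by rw [← mul_assoc, ← pow_succ']; exact hu))

include hq in
theorem span_pair_eq (hdeg : P.natDegree ≤ 2 * D) (hs : IsSymm q ε D P) (h : MvPolynomial (Fin 2) ℤ)
    (hh : X 0 ^ D * h - ofX P ∈ Ideal.span {fq q}) :
    Ideal.span {fq q, h} = Ideal.span {fq q, hcan ε D P} := by
  have h1 : h - hcan ε D P ∈ Ideal.span {fq q} := cancel_X0_pow hq D (by
    have h2 := sub_mem hh (hcan_spec hq hdeg hs)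
    convert h2 using 1; ring)
  obtain ⟨c, hc⟩ := Ideal.mem_span_singleton'.1 h1
  refine le_antisymm (Ideal.span_le.2 ?_) (Ideal.span_le.2 ?_) <;> rintro x (rfl | rfl)
  · exact Ideal.mem_span_pair.2 ⟨1, 0, by ring⟩
  · exact Ideal.mem_span_pair.2 ⟨c, 1, by rw [hc]; ring⟩
  · exact Ideal.mem_span_pair.2 ⟨1, 0, by ring⟩
  · exact Ideal.mem_span_pair.2 ⟨-c, 1, by rw [neg_mul, hc]; ring⟩

include hq in
/-- The sequence `f, h` is regular. -/
theorem isWeaklyRegular (hP0 : P ≠ 0) (h : MvPolynomial (Fin 2) ℤ) (hh : X 0 ^ D * h - ofX P ∈ Ideal.span {fq q}) :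
    RingTheory.Sequence.IsWeaklyRegular (MvPolynomial (Fin 2) ℤ) [fq q, h] := by
  refine (RingTheory.Sequence.isWeaklyRegular_cons_iff _ _ _).2 ⟨?_, (RingTheory.Sequence.isWeaklyRegular_singleton_iff _ _).2 ?_⟩
  · exact fun a b hab => mul_left_cancel₀ fq_ne_zero hab
  · refine fun y z hyz => sub_eq_zero.1 ?_
    have hx : h • (y - z) = 0 := by rw [smul_sub, sub_eq_zero]; exact hyz
    generalize y - z = x at hx ⊢
    obtain ⟨u, rfl⟩ := Submodule.Quotient.mk_surjective _ x
    rw [← Submodule.Quotient.mk_smul, Submodule.Quotient.mk_eq_zero, Submodule.mem_smul_pointwise_iff_exists] at hx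
    obtain ⟨c, -, hc⟩ := hx
    rw [Submodule.Quotient.mk_eq_zero, Submodule.mem_smul_pointwise_iff_exists]
    have hψ : psi q u = 0 := by
      have h1 : psi q h * psi q u = 0 := by
        have := congrArg (psi q) hc
        simpa [psi_fq] using this.symm
      refine (mul_eq_zero.1 h1).resolve_left fun h0 => hP0 ?_
      have h2 := (mem_span_fq_iff hq _).1 hh
      rw [map_sub, map_mul, h0, mul_zero, zero_sub, neg_eq_zero, psi_ofX] at h2
      exact Polynomial.map_injective _ (RingHom.injective_int (Int.castRingHom ℚ))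
        (RatFunc.algebraMap_injective ℚ (by rw [h2, Polynomial.map_zero, map_zero]))
    obtain ⟨d, hd⟩ := Ideal.mem_span_singleton'.1 ((mem_span_fq_iff hq u).2 hψ)
    exact ⟨d, trivial, by rw [smul_eq_mul, mul_comm, hd]⟩

end GrothLib.WeilOrd
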