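import Groth.Agent.Lib.GorFlat.Rings
import Groth.Agent.Lib.LiaisonCM.AlmostCI
import Groth.Agent.Lib.Gor.Basic
import Groth.Agent.Lib.Gor.InjDim

/-!
# Two criteria about Gorenstein rings
-/

set_option autoImplicit false
set_option linter.all false

universe u v w

open CategoryTheory IsLocalRing

noncomputable section

namespace GrothLib.WeilOrd

/-- A quotient of a Gorenstein ring by an ideal locally generated by regular sequences is Gorenstein. -/
theorem isGorensteinRing_of_surjective_locally {A R : Type u} [CommRing A] [CommRing R] [hA : LocCoh.IsGorensteinRing A]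
    (φ : A →+* R) (hφ : Function.Surjective φ)
    (H : ∀ (Q : Ideal A) [Q.IsPrime], RingHom.ker φ ≤ Q → ∃ rs : List A, RingTheory.Sequence.IsWeaklyRegular A rs ∧
      (∀ r ∈ rs, r ∈ Q) ∧ (RingHom.ker φ).map (algebraMap A (Localization.AtPrime Q)) =
        (Ideal.ofList rs).map (algebraMap A (Localization.AtPrime Q))) :
    LocCoh.IsGorensteinRing R := by
  haveI : IsNoetherianRing A := hA.toIsNoetherian
  haveI : IsNoetherianRing R := isNoetherianRing_of_surjective A R φ hφ
  refine { isGorensteinLocalRing_localization := fun q _ => ?_ }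
  obtain ⟨e⟩ := GrothLib.LiaisonCM.nonempty_localization_quot φ hφ q
  let Q := q.comap φ
  let L := Localization.AtPrime Q
  haveI hL := hA.isGorensteinLocalRing_localization Q
  obtain ⟨rs, hrs, hmem, hI⟩ := H Q fun x hx => by
    rw [Ideal.mem_comap, RingHom.mem_ker.1 hx]; exact zero_mem _
  have hmem' : ∀ r ∈ rs.map (algebraMap A L), r ∈ maximalIdeal L := by
    intro r hr
    obtain ⟨x, hx, rfl⟩ := List.mem_map.1 hr
    rw [← Localization.AtPrime.map_eq_maximalIdeal]
    exact Ideal.mem_map_of_mem _ (hmem x hx)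
  have hG := (GorFlat.gorenstein_quot_ofList _
    (RingTheory.Sequence.IsWeaklyRegular.of_isLocalization L Q.primeCompl hrs) hmem').2 hL
  refine (GorFlat.gorenstein_congr ((Ideal.quotEquivOfEq ?_).trans e)).1 hG
  rw [hI, Ideal.map_ofList]

/-- A Gorenstein ring of dimension zero is self-injective. -/
theorem injective_self (C : Type u) [CommRing C] [LocCoh.IsGorensteinLocalRing C] (h : ringKrullDim C ≤ 0) :
    Module.Injective C C := by
  obtain ⟨d, hd, -, hv, -⟩ := GrothLib.Gor.exists_dim C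
  have hd0 : d = 0 := by rw [hd] at h; exact Nat.le_zero.1 (by exact_mod_cast h)
  have h1 : HasInjectiveDimensionLT (ModuleCat.of C C) (0 + 1) :=
    GrothLib.Gor.hasInjectiveDimensionLT_of_residue (ModuleCat.of C C) (N := 0) fun i hi => hv i (by omega)
  exact Module.injective_module_of_injective_object C C (inj := injective_iff_hasInjectiveDimensionLT_one.2 h1)

/-- Two socle elements modulo a regular element prevent being Gorenstein. -/
theorem not_isGorensteinRing_of_socle {R : Type u} [CommRing R] (hdim : ringKrullDim R ≤ 1) (q : Ideal R) [q.IsPrime]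
    {a : R} (haq : a ∈ q) (ha : IsSMulRegular R a) (u v : R)
    (hu : ∀ x ∈ q, ∃ w ∉ q, w * (x * u) ∈ Ideal.span {a}) (hv : ∀ x ∈ q, ∃ w ∉ q, w * (x * v) ∈ Ideal.span {a})
    {S₁ : Type v} [CommRing S₁] (χ₁ : R →+* S₁) (hχ₁ : ∀ z ∉ q, IsUnit (χ₁ z)) (ha₁ : χ₁ a = 0)
    (hu₁ : χ₁ u ≠ 0) (hv₁ : χ₁ v = 0)
    {S₂ : Type w} [CommRing S₂] (χ₂ : R →+* S₂) (hχ₂ : ∀ z ∉ q, IsUnit (χ₂ z)) (ha₂ : χ₂ a = 0) (hv₂ : χ₂ v ≠ 0) :
    ¬ LocCoh.IsGorensteinRing R := by
  intro hG
  haveI : IsNoetherianRing R := hG.toIsNoetherian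
  let B := Localization.AtPrime q
  haveI := hG.isGorensteinLocalRing_localization q
  have haB : algebraMap R B a ∈ maximalIdeal B := (IsLocalization.AtPrime.to_map_mem_maximal_iff B q a).2 haq
  have hareg : IsSMulRegular B (algebraMap R B a) := by
    intro x y hxy
    obtain ⟨⟨x, s⟩, rfl⟩ := IsLocalization.mk'_surjective q.primeCompl x
    obtain ⟨⟨y, t⟩, rfl⟩ := IsLocalization.mk'_surjective q.primeCompl y
    simp only [smul_eq_mul, IsLocalization.mul_mk'_eq_mk'_of_mul] at hxy
    rw [IsLocalization.mk'_eq_iff_eq, IsLocalization.eq_iff_exists q.primeCompl] at hxy ⊢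
    obtain ⟨c, hc⟩ := hxy
    refine ⟨c, ha ?_⟩
    simp only [smul_eq_mul]
    linear_combination hc
  let C := B ⧸ Ideal.span {algebraMap R B a}
  haveI : IsLocalRing C := GorFlat.isLocalRing_quot ((Ideal.span_singleton_le_iff_mem _).2 haB)
  haveI : LocCoh.IsGorensteinLocalRing C := (GorFlat.gorenstein_quot_iff haB (fun x y h => hareg h)).2 inferInstance
  have hdC : ringKrullDim C ≤ 0 := by
    have hnz : algebraMap R B a ∈ nonZeroDivisors B :=
      mem_nonZeroDivisors_iff_right.2 fun x hx =>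
        hareg (show algebraMap R B a • x = algebraMap R B a • 0 by rw [smul_zero, smul_eq_mul, mul_comm, hx])
    have h1 : ringKrullDim C + 1 ≤ ringKrullDim B := ringKrullDim_quotient_succ_le_of_nonZeroDivisor hnz
    have h2 : ringKrullDim B ≤ 1 := by
      rw [IsLocalization.AtPrime.ringKrullDim_eq_height q B]
      exact (Ideal.height_le_ringKrullDim_of_ne_top ‹q.IsPrime›.ne_top).trans hdim
    have h3 := h1.trans h2
    obtain ⟨d, hd, -⟩ := GrothLib.Gor.exists_dim C
    rw [hd] at h3 ⊢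
    exact_mod_cast (show d ≤ 0 by
      have : d + 1 ≤ 1 := by exact_mod_cast h3
      omega)
  haveI := injective_self C hdC
  let π : B →+* C := Ideal.Quotient.mk _
  have hm : ∀ (y : R), (∀ x ∈ q, ∃ w ∉ q, w * (x * y) ∈ Ideal.span {a}) →
      ∀ z : C, ¬ IsUnit z → z * π (algebraMap R B y) = 0 := by
    intro y hy z hz
    obtain ⟨z, rfl⟩ := Ideal.Quotient.mk_surjective z
    obtain ⟨⟨x, s⟩, rfl⟩ := IsLocalization.mk'_surjective q.primeCompl z
    have hx : x ∈ q := (IsLocalization.AtPrime.mk'_mem_maximal_iff B q x s).1 fun h => hz (h.map π)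
    obtain ⟨w, hw, hmem⟩ := hy x hx
    obtain ⟨c, hc⟩ := Ideal.mem_span_singleton'.1 hmem
    rw [← map_mul]
    refine Ideal.Quotient.eq_zero_iff_mem.2 (Ideal.mem_span_singleton'.2
      ⟨IsLocalization.mk' B c (⟨w, hw⟩ * s), ?_⟩)
    rw [mul_comm (IsLocalization.mk' B c _), IsLocalization.mul_mk'_eq_mk'_of_mul, mul_comm (IsLocalization.mk' B x s),
      IsLocalization.mul_mk'_eq_mk'_of_mul, IsLocalization.mk'_eq_iff_eq]
    congr 1
    simp only [Submonoid.coe_mul]
    linear_combination (s : R) * hc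
  have hlift : ∀ {S : Type v} [CommRing S] (χ : R →+* S) (hχ : ∀ z ∉ q, IsUnit (χ z)), χ a = 0 →
      ∃ ψ : C →+* S, ∀ y, ψ (π (algebraMap R B y)) = χ y := fun {S} _ χ hχ h0 => by
    let ψB : B →+* S := IsLocalization.lift (M := q.primeCompl) (g := χ) fun y => hχ y y.2
    exact ⟨Ideal.Quotient.lift _ ψB fun b hb => by
      obtain ⟨c, rfl⟩ := Ideal.mem_span_singleton'.1 hb
      rw [map_mul, IsLocalization.lift_eq, h0, mul_zero], fun y => IsLocalization.lift_eq _ y⟩
  obtain ⟨ψ₁, hψ₁⟩ := hlift χ₁ hχ₁ ha₁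
  have hv0 : π (algebraMap R B v) ≠ 0 := fun h0 => by
    let ψB : B →+* S₂ := IsLocalization.lift (M := q.primeCompl) (g := χ₂) fun y => hχ₂ y y.2
    obtain ⟨c, hc⟩ := Ideal.mem_span_singleton'.1 (Ideal.Quotient.eq_zero_iff_mem.1 h0)
    have := congrArg ψB hc
    rw [map_mul, IsLocalization.lift_eq, IsLocalization.lift_eq, ha₂, mul_zero] at this
    exact hv₂ this.symm
  let F : C × C →ₗ[C] C := LinearMap.coprod (LinearMap.toSpanSingleton C C (π (algebraMap R B u)))
    (LinearMap.toSpanSingleton C C (π (algebraMap R B v)))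
  let G : C × C →ₗ[C] C := LinearMap.coprod (LinearMap.toSpanSingleton C C (π (algebraMap R B u))) 0
  have hFG : LinearMap.ker F ≤ LinearMap.ker G := fun z hz => by
    simp only [LinearMap.mem_ker, F, G, LinearMap.coprod_apply, LinearMap.toSpanSingleton_apply, smul_eq_mul,
      LinearMap.zero_apply, add_zero] at hz ⊢
    by_contra hne
    have hunit : IsUnit z.1 := by_contra fun h => hne (hm u hu _ h)
    have h1 := congrArg ψ₁ hz
    rw [map_add, map_mul, map_mul, hψ₁, hψ₁, hv₁, mul_zero, add_zero, map_zero] at h1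
    exact hu₁ ((IsUnit.mul_right_eq_zero (hunit.map ψ₁)).1 h1)
  obtain ⟨g, hg⟩ := Module.Injective.out (R := C) (Q := C) (LinearMap.range F).subtype (Submodule.subtype_injective _)
    (((LinearMap.ker F).liftQ G hFG).comp F.quotKerEquivRange.symm.toLinearMap)
  have hg' : ∀ z, g (F z) = G z := fun z => by
    have h := hg ⟨F z, LinearMap.mem_range_self F z⟩
    rw [Submodule.subtype_apply] at h
    rw [h, LinearMap.comp_apply, LinearEquiv.coe_coe, show F.quotKerEquivRange.symm ⟨F z, LinearMap.mem_range_self F z⟩ =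
      Submodule.Quotient.mk z from F.quotKerEquivRange.symm_apply_eq.2 rfl, Submodule.liftQ_apply]
  have hgc : ∀ x, g x = x * g 1 := fun x => by rw [← smul_eq_mul x (g 1), ← map_smul, smul_eq_mul, mul_one]
  have e1 := hg' (1, 0)
  have e2 := hg' (0, 1)
  simp only [F, G, LinearMap.coprod_apply, LinearMap.toSpanSingleton_apply, smul_eq_mul, one_mul, zero_mul, add_zero, zero_add,
    LinearMap.zero_apply] at e1 e2
  rw [hgc] at e1 e2
  by_cases hc : IsUnit (g 1)
  · exact hv0 (hc.mul_left_eq_zero.1 e2)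
  · rw [mul_comm, hm u hu _ hc] at e1
    apply hu₁
    rw [← hψ₁, ← e1, map_zero]

end GrothLib.WeilOrd
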