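import Groth.Agent.Lib.WeilOrd.Ordinary

/-!
# Integrality read off in the algebraic closures of the `ℓ`-adic numbers
-/

set_option autoImplicit false
set_option linter.all false

universe v

open Polynomial
open scoped Classical

noncomputable section

namespace GrothLib.WeilOrd

theorem norm_le_one_of_root' {L : Type*} [NormedField L] [IsUltrametricDist L] {P : L[X]} (hm : P.Monic)
    (hc : ∀ i, ‖P.coeff i‖ ≤ 1) {z : L} (hz : P.eval z = 0) : ‖z‖ ≤ 1 := by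
  by_contra h
  push Not at h
  rw [eval_eq_sum_range, Finset.sum_range_succ, hm.coeff_natDegree, one_mul, add_eq_zero_iff_neg_eq] at hz
  have hn : P.natDegree ≠ 0 := fun h0 => by
    rw [h0, Finset.range_zero, Finset.sum_empty, neg_zero, pow_zero] at hz
    exact zero_ne_one hz
  have h1 : ‖∑ i ∈ Finset.range P.natDegree, P.coeff i * z ^ i‖ ≤ ‖z‖ ^ (P.natDegree - 1) := by
    refine IsUltrametricDist.norm_sum_le_of_forall_le_of_nonneg (by positivity) fun i hi => ?_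
    rw [norm_mul, norm_pow]
    calc _ ≤ 1 * ‖z‖ ^ i := by gcongr; exact hc i
      _ = ‖z‖ ^ i := one_mul _
      _ ≤ _ := pow_le_pow_right₀ h.le (by have := Finset.mem_range.1 hi; omega)
  rw [← norm_neg, hz, norm_pow] at h1
  exact absurd h1 (not_le.2 (pow_lt_pow_right₀ h (by omega)))

/-- A rational number that is integral in every `ℚ̄_ℓ` is an integer. -/
theorem den_eq_one (c : ℚ) (h : ∀ (ℓ : ℕ) [Fact ℓ.Prime], ‖(c : PadicAlgCl ℓ)‖ ≤ 1) : c.den = 1 := by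
  by_contra hd
  obtain ⟨ℓ, hℓ, hdvd⟩ := Nat.exists_prime_and_dvd hd
  haveI := Fact.mk hℓ
  have h1 : (c : PadicAlgCl ℓ) * ((c.den : ℤ) : PadicAlgCl ℓ) = ((c.num : ℤ) : PadicAlgCl ℓ) := by
    exact_mod_cast congrArg (Rat.cast : ℚ → PadicAlgCl ℓ) (Rat.mul_den_eq_num c)
  have h2 : ‖((c.num : ℤ) : PadicAlgCl ℓ)‖ < 1 := by
    rw [← h1, norm_mul]
    exact lt_of_le_of_lt (mul_le_of_le_one_left (norm_nonneg _) (h ℓ))
      ((norm_intCast_lt_one_iff _).2 (Int.natCast_dvd_natCast.2 hdvd))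
  have h3 : ℓ ∣ c.num.natAbs := Int.natCast_dvd.1 ((norm_intCast_lt_one_iff _).1 h2)
  exact hℓ.ne_one (Nat.dvd_one.1 (c.reduced ▸ Nat.dvd_gcd h3 hdvd))

/-- An algebraic number all of whose `ℓ`-adic conjugates are integral is integral. -/
theorem isIntegral_of_forall_norm {K : Type v} [Field K] [CharZero K] {γ : K} (hγ : IsIntegral ℚ γ)
    (h : ∀ (ℓ : ℕ) [Fact ℓ.Prime] (z : PadicAlgCl ℓ), z ∈ (minpoly ℚ γ).aroots (PadicAlgCl ℓ) → ‖z‖ ≤ 1) :
    IsIntegral ℤ γ := by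
  have hm := minpoly.monic hγ
  have hlift : minpoly ℚ γ ∈ Polynomial.lifts (Int.castRingHom ℚ) := by
    rw [Polynomial.lifts_iff_coeff_lifts]
    intro i
    refine ⟨((minpoly ℚ γ).coeff i).num, Rat.coe_int_num_of_den_eq_one (den_eq_one _ fun ℓ _ => ?_)⟩
    have hsplit : (minpoly ℚ γ).map (algebraMap ℚ (PadicAlgCl ℓ)) =
        (((minpoly ℚ γ).aroots (PadicAlgCl ℓ)).map fun z => X - C z).prod :=
      (IsAlgClosed.splits _).eq_prod_roots_of_monic (hm.map _)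
    have h1 := (coeff_prod_roots _ (h ℓ)).1 i
    rwa [← hsplit, coeff_map, eq_ratCast] at h1
  obtain ⟨P, hP, -, hPm⟩ := Polynomial.lifts_and_degree_eq_and_monic hlift hm
  refine ⟨P, hPm, ?_⟩
  show aeval γ P = 0
  rw [← minpoly.aeval ℚ γ, ← hP, show Int.castRingHom ℚ = algebraMap ℤ ℚ from rfl, aeval_map_algebraMap]

/-- An eigenvalue of a matrix over `ℤ_ℓ` is integral. -/
theorem norm_eigenvalue_le {ℓ : ℕ} [Fact ℓ.Prime] {g : ℕ} (B : Matrix (Fin g) (Fin g) ℤ_[ℓ])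
    (φ : ℤ_[ℓ] →+* PadicAlgCl ℓ) (hφ : ∀ x, ‖φ x‖ ≤ 1) {c : PadicAlgCl ℓ} {v : Fin g → PadicAlgCl ℓ} (hv : v ≠ 0)
    (hB : (B.map φ).mulVec v = c • v) : ‖c‖ ≤ 1 := by
  refine norm_le_one_of_root' ((B.charpoly_monic).map φ) (fun i => by rw [coeff_map]; exact hφ _) ?_
  rw [← Matrix.charpoly_map, Matrix.eval_charpoly, ← Matrix.exists_mulVec_eq_zero_iff]
  exact ⟨v, hv, by rw [Matrix.sub_mulVec, Matrix.scalar_apply, ← Matrix.smul_one_eq_diagonal, Matrix.smul_mulVec,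
    Matrix.one_mulVec, hB, sub_self]⟩

/-- **The square root of `n` divides `α - 1`.** -/
theorem isIntegral_sub_one_div_sqrt (n : ℕ) (hn : 0 < n) (g : ℕ) (f : ℤ[X]) (hf : f.Monic)
    (hA : ∀ (ℓ : ℕ) [Fact ℓ.Prime], ℓ ∣ n → ∃ A : Matrix (Fin g) (Fin g) ℤ_[ℓ],
      A.charpoly = f.map (Int.castRingHom ℤ_[ℓ]) ∧
        ∃ B : Matrix (Fin g) (Fin g) ℤ_[ℓ], (A - 1) ^ 2 = (n : ℤ_[ℓ]) • B)
    (K : Type v) [Field K] [CharZero K] (α s : K) (hα : aeval α f = 0) (hs : s ^ 2 = (n : K)) :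
    IsIntegral ℤ ((α - 1) / s) := by
  refine IsIntegral.of_pow two_pos ?_
  rw [div_pow, hs]
  have hαQ : IsIntegral ℚ α := (IsIntegral.tower_top (A := ℚ) (⟨f, hf, hα⟩ : IsIntegral ℤ α))
  let E := IntermediateField.adjoin ℚ {α}
  haveI : FiniteDimensional ℚ E := IntermediateField.adjoin.finiteDimensional hαQ
  let a : E := ⟨α, IntermediateField.mem_adjoin_simple_self ℚ α⟩
  let γ : E := (a - 1) ^ 2 / (n : E)
  have hval : algebraMap E K γ = (α - 1) ^ 2 / (n : K) := by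
    simp only [γ, map_div₀, map_pow, map_sub, map_one, map_natCast]; rfl
  rw [← hval]
  refine IsIntegral.algebraMap (isIntegral_of_forall_norm (IsIntegral.of_finite ℚ γ) fun ℓ _ z hz => ?_)
  have hz' : z ∈ (minpoly ℚ γ).rootSet (PadicAlgCl ℓ) := by
    rw [Polynomial.rootSet_def, Finset.mem_coe, Multiset.mem_toFinset]; exact hz
  rw [← Algebra.IsAlgebraic.range_eval_eq_rootSet_minpoly (PadicAlgCl ℓ) γ] at hz'
  obtain ⟨σ, rfl⟩ := hz'
  show ‖σ γ‖ ≤ 1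
  have hroot : aeval (σ a) f = 0 := by
    have h0 : aeval a f = 0 := (algebraMap E K).injective (by rw [← aeval_algebraMap_apply, map_zero]; exact hα)
    have := congrArg σ.toRingHom.toIntAlgHom h0
    rwa [← aeval_algHom_apply, map_zero] at this
  have hσγ : σ γ = (σ a - 1) ^ 2 / (n : PadicAlgCl ℓ) := by
    simp only [γ, map_div₀, map_pow, map_sub, map_one, map_natCast]
  rw [hσγ]
  by_cases hdvd : ℓ ∣ n
  · obtain ⟨A, hAc, B, hAB⟩ := hA ℓ hdvd
    let φ : ℤ_[ℓ] →+* PadicAlgCl ℓ := (algebraMap ℚ_[ℓ] (PadicAlgCl ℓ)).comp PadicInt.Coe.ringHom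
    have hφ : ∀ x, ‖φ x‖ ≤ 1 := fun x => by
      show ‖algebraMap ℚ_[ℓ] (PadicAlgCl ℓ) (x : ℚ_[ℓ])‖ ≤ 1
      rw [show ‖algebraMap ℚ_[ℓ] (PadicAlgCl ℓ) (x : ℚ_[ℓ])‖ = ‖(x : ℚ_[ℓ])‖ from PadicAlgCl.norm_extends ℓ _]
      exact x.2
    have hdet : (Matrix.scalar (Fin g) (σ a) - A.map φ).det = 0 := by
      rw [← Matrix.eval_charpoly, Matrix.charpoly_map, hAc, Polynomial.map_map,
        RingHom.eq_intCast' (φ.comp (Int.castRingHom ℤ_[ℓ])), ← algebraMap_int_eq, eval_map_algebraMap]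
      exact hroot
    obtain ⟨v, hv, hAv⟩ := Matrix.exists_mulVec_eq_zero_iff.2 hdet
    rw [Matrix.sub_mulVec, Matrix.scalar_apply, ← Matrix.smul_one_eq_diagonal, Matrix.smul_mulVec, Matrix.one_mulVec,
      sub_eq_zero] at hAv
    refine norm_eigenvalue_le B φ hφ hv ?_
    have h1 := congrArg (RingHom.mapMatrix φ) hAB
    rw [map_pow, map_sub, map_one, RingHom.mapMatrix_apply, RingHom.mapMatrix_apply,
      Matrix.map_smul' φ (n : ℤ_[ℓ]) B (map_mul φ), map_natCast] at h1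
    have e1 : (A.map φ - 1).mulVec v = (σ a - 1) • v := by
      rw [Matrix.sub_mulVec, Matrix.one_mulVec, ← hAv, sub_smul, one_smul]
    have h2 : ((A.map φ - 1) ^ 2).mulVec v = (σ a - 1) ^ 2 • v := by
      rw [sq, ← Matrix.mulVec_mulVec, e1, Matrix.mulVec_smul, e1, smul_smul, sq]
    rw [h1, Matrix.smul_mulVec] at h2
    have hn0 : (n : PadicAlgCl ℓ) ≠ 0 := Nat.cast_ne_zero.2 hn.ne'
    rw [div_eq_inv_mul, ← smul_smul, ← h2, smul_smul, inv_mul_cancel₀ hn0, one_smul]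
  · have hn1 : ‖(n : PadicAlgCl ℓ)‖ = 1 := by
      refine le_antisymm (by simpa using norm_intCast_le_one (p := ℓ) (n : ℤ)) (not_lt.1 fun hlt => hdvd ?_)
      exact Int.natCast_dvd_natCast.1 ((norm_intCast_lt_one_iff (p := ℓ) (n : ℤ)).1 (by simpa using hlt))
    rw [norm_div, norm_pow, hn1, div_one]
    refine pow_le_one₀ (norm_nonneg _) ?_
    refine (IsUltrametricDist.norm_add_le_max (σ a) (-1)).trans_eq' (by rw [sub_eq_add_neg]) |>.trans ?_
    rw [norm_neg, norm_one]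
    exact max_le (norm_le_one_of_root hf hroot) le_rfl

end GrothLib.WeilOrd
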