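import Groth.Agent.Lib.WeilOrd.Order

/-!
# Modules over the minimal central order
-/

set_option autoImplicit false
set_option linter.all false

universe u v

open MvPolynomial
open GrothLib.TateThm (weilPoly monic_weilPoly aeval_weilPoly)

noncomputable section

namespace GrothLib.WeilOrd

variable {ι : Type} [Fintype ι] {K : ι → Type u} [∀ i, Field (K i)] [∀ i, CharZero (K i)]
variable {q : ℤ} (hq : q ≠ 0) {ϖ : ∀ i, K i} (hint : ∀ i, IsIntegral ℤ (ϖ i)) (hw : IsWeil q ϖ)
  (hinj : ∀ i j, minpoly ℤ (ϖ i) = minpoly ℤ (ϖ j) → i = j) {D : ℕ} (hD : ∑ i, (minpoly ℤ (ϖ i)).natDegree = 2 * D)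
variable {T : Type v} [AddCommGroup T] [Module.Finite ℤ T] [Module.Free ℤ T] (FT : T →ₗ[ℤ] T)

include hq hint hw in
omit [Module.Finite ℤ T] in
theorem injective_of_aeval (hP : Polynomial.aeval FT (weilPoly ϖ) = 0) : Function.Injective FT := by
  let a := (weilPoly ϖ).coeff 0
  have ha : a ≠ 0 := fun ha => by
    have hz : (0 : ℂ) ∈ (weilPoly ϖ).aroots ℂ := Polynomial.mem_aroots.2 ⟨(monic_weilPoly ϖ hint).ne_zero,
      by rw [← Polynomial.coeff_zero_eq_aeval_zero']; simp [show (weilPoly ϖ).coeff 0 = 0 from ha]⟩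
    exact hq (by simpa using (weil_roots hint hw hz).symm)
  rw [← Polynomial.divX_mul_X_add (weilPoly ϖ), map_add, map_mul, Polynomial.aeval_X, Polynomial.aeval_C] at hP
  refine (injective_iff_map_eq_zero FT).2 fun x hx => ?_
  have h := LinearMap.congr_fun hP x
  simp only [LinearMap.add_apply, Module.End.mul_apply, hx, map_zero, zero_add, LinearMap.zero_apply,
    Module.algebraMap_end_apply] at h
  exact (smul_eq_zero.1 h).resolve_left ha

include hq hint hw hinj hD in
/-- **Modules over the minimal central order are lattices with `F` and `V`.** -/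
theorem exists_module_iff (F₀ : (ev q ϖ).range) (hF₀ : (F₀ : ∀ i, K i) = ev q ϖ (X 0)) :
    (∃ _ : Module (ev q ϖ).range T, ∀ t : T, F₀ • t = FT t) ↔
      (Polynomial.aeval FT (weilPoly ϖ) = 0 ∧ ∃ VT : T →ₗ[ℤ] T, FT ∘ₗ VT = q • LinearMap.id) := by
  obtain ⟨h, hh⟩ := exists_h hq hint hw hD
  constructor
  · rintro ⟨inst, hF⟩
    let φ : (ev q ϖ).range →ₐ[ℤ] Module.End ℤ T := Algebra.lsmul ℤ ℤ T
    have hφ : φ F₀ = FT := LinearMap.ext hF
    refine ⟨?_, φ ⟨ev q ϖ (X 1), X 1, rfl⟩, ?_⟩
    · rw [← hφ, Polynomial.aeval_algHom_apply]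
      have h0 : Polynomial.aeval F₀ (weilPoly ϖ) = 0 := Subtype.ext (by
        rw [← Subalgebra.coe_val, ← Polynomial.aeval_algHom_apply, Subalgebra.coe_val, hF₀,
          show ev q ϖ (X 0) = ϖ by rw [ev, aeval_X]; rfl]
        exact aeval_weilPoly ϖ)
      rw [h0, map_zero]
    · rw [← hφ, ← Module.End.mul_eq_comp, ← map_mul]
      have h0 : F₀ * ⟨ev q ϖ (X 1), X 1, rfl⟩ = algebraMap ℤ (ev q ϖ).range q := Subtype.ext (by
        have := ev_fq hq hint hw
        rw [fq, map_sub, map_mul, sub_eq_zero, ← algebraMap_eq, AlgHom.commutes] at this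
        simpa [hF₀] using this)
      rw [h0, AlgHom.commutes, Algebra.algebraMap_eq_smul_one]
      rfl
  · rintro ⟨hP, VT, hFV⟩
    have hFinj := injective_of_aeval hq hint hw FT hP
    have hVF : VT * FT = q • (1 : Module.End ℤ T) := by
      refine LinearMap.ext fun x => hFinj ?_
      have h1 := LinearMap.congr_fun hFV (FT x)
      simp only [LinearMap.comp_apply, LinearMap.smul_apply, LinearMap.id_apply] at h1
      simp only [Module.End.mul_apply, LinearMap.smul_apply, Module.End.one_apply, map_smul]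
      exact h1
    have hcomm : ∀ a ∈ ({FT, VT} : Set (Module.End ℤ T)), ∀ b ∈ ({FT, VT} : Set (Module.End ℤ T)), a * b = b * a := by
      rintro a (rfl | rfl) b (rfl | rfl)
      · rfl
      · rw [hVF]; exact hFV
      · rw [hVF]; exact hFV.symm
      · rfl
    letI := Algebra.adjoinCommRingOfComm ℤ hcomm
    let A := Algebra.adjoin ℤ ({FT, VT} : Set (Module.End ℤ T))
    let a : Fin 2 → A := ![⟨FT, Algebra.subset_adjoin (by simp)⟩, ⟨VT, Algebra.subset_adjoin (by simp)⟩]
    let φ0 : MvPolynomial (Fin 2) ℤ →ₐ[ℤ] Module.End ℤ T := A.val.comp (MvPolynomial.aeval a)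
    have h0 : φ0 (X 0) = FT := by simp [φ0, a]
    have h1 : φ0 (X 1) = VT := by simp [φ0, a]
    have hf : φ0 (fq q) = 0 := by
      rw [fq, map_sub, map_mul, h0, h1, Module.End.mul_eq_comp, hFV, ← algebraMap_eq, AlgHom.commutes,
        Algebra.algebraMap_eq_smul_one]
      exact sub_self _
    have hh0 : φ0 h = 0 := by
      obtain ⟨c, hc⟩ := Ideal.mem_span_singleton'.1 hh
      have hφ := congrArg φ0 hc
      rw [map_mul, hf, mul_zero, map_sub, map_mul, map_pow, h0,
        show φ0 (ofX (weilPoly ϖ)) = 0 by rw [ofX, ← Polynomial.aeval_algHom_apply, h0, hP], sub_zero] at hφ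
      refine LinearMap.ext fun x => ?_
      have h2 : Function.Injective (FT ^ D : Module.End ℤ T) := by
        rw [Module.End.coe_pow]; exact hFinj.iterate D
      exact h2 ((LinearMap.congr_fun hφ.symm x).trans (map_zero _).symm)
    have hker : RingHom.ker (ev q ϖ) ≤ RingHom.ker φ0 := by
      rw [ker_ev hq hint hw hinj hD h hh, Ideal.span_le]
      rintro x (rfl | rfl)
      · exact hf
      · exact hh0
    choose g hg using fun r : (ev q ϖ).range => (AlgHom.mem_range (ev q ϖ)).1 r.2
    have key : ∀ {x y}, ev q ϖ x = ev q ϖ y → φ0 x = φ0 y := fun {x y} hxy => by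
      rw [← sub_eq_zero, ← map_sub]
      exact hker (by rw [RingHom.mem_ker, map_sub, sub_eq_zero]; exact hxy)
    let ψ : (ev q ϖ).range →+* Module.End ℤ T :=
      { toFun := fun r => φ0 (g r)
        map_one' := (key (by rw [hg, map_one]; rfl)).trans (map_one φ0)
        map_mul' := fun r s => (key (by rw [hg, map_mul, hg, hg]; rfl)).trans (map_mul φ0 _ _)
        map_zero' := (key (by rw [hg, map_zero]; rfl)).trans (map_zero φ0)
        map_add' := fun r s => (key (by rw [hg, map_add, hg, hg]; rfl)).trans (map_add φ0 _ _) }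
    refine ⟨Module.compHom T ψ, fun t => ?_⟩
    show φ0 (g F₀) t = FT t
    rw [key (show ev q ϖ (g F₀) = ev q ϖ (X 0) by rw [hg, hF₀]), h0]

end GrothLib.WeilOrd
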