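import Mathlib
import Groth.Agent.Lib.WeilOrd.Basic

/-!
# Symmetry of Weil polynomials
-/

set_option autoImplicit false
set_option linter.all false

open Polynomial

noncomputable section

namespace GrothLib.WeilOrd

variable {q : ℤ} {P : ℤ[X]}

/-- A polynomial all of whose roots satisfy `z * conj z = q` is its own reciprocal up to a constant. -/
theorem reciprocal_eq (hm : P.Monic) (hq : q ≠ 0)
    (hw : ∀ z ∈ P.aroots ℂ, z * starRingEnd ℂ z = (q : ℂ)) :
    ∑ j ∈ Finset.range (P.natDegree + 1), C (P.coeff j * q ^ j) * X ^ (P.natDegree - j) = C (P.coeff 0) * P := by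
  classical
  let n := P.natDegree
  let R := P.aroots ℂ
  have hsplit : P.map (algebraMap ℤ ℂ) = (R.map fun z => X - C z).prod :=
    (IsAlgClosed.splits _).eq_prod_roots_of_monic (hm.map _)
  have hcard : Multiset.card R = n := by
    show Multiset.card (P.map (algebraMap ℤ ℂ)).roots = _
    rw [IsAlgClosed.card_roots_eq_natDegree, hm.natDegree_map]
  have hconj : R.map (starRingEnd ℂ) = R := by
    show ((P.map (algebraMap ℤ ℂ)).roots).map _ = (P.map (algebraMap ℤ ℂ)).roots
    have h := Polynomial.roots_map_of_injective_of_card_eq_natDegree (p := P.map (algebraMap ℤ ℂ)) (starRingEnd ℂ).injective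
      IsAlgClosed.card_roots_eq_natDegree
    rw [h, Polynomial.map_map]
    congr 2
    exact RingHom.ext_int _ _
  have hev : ∀ y : ℂ, aeval y P = (R.map fun z => y - z).prod := fun y => by
    rw [← eval_map_algebraMap, hsplit, eval_multiset_prod, Multiset.map_map]
    simp [Function.comp_def]
  have hev' : ∀ y : ℂ, aeval y P = (R.map fun z => y - starRingEnd ℂ z).prod := fun y => by
    conv_lhs => rw [hev, ← hconj, Multiset.map_map]
    rfl
  have key : ∀ x : ℂ, x ≠ 0 → x ^ n * aeval ((q : ℂ) / x) P = aeval (0 : ℂ) P * aeval x P := fun x hx => by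
    rw [hev, hev 0, hev' x, show x ^ n = (R.map fun _ => x).prod by
      rw [Multiset.map_const', Multiset.prod_replicate, hcard],
      ← Multiset.prod_map_mul, ← Multiset.prod_map_mul]
    refine congrArg Multiset.prod (Multiset.map_congr rfl fun z hz => ?_)
    rw [mul_sub, mul_div_cancel₀ _ hx, ← hw z hz]
    ring
  refine Polynomial.map_injective (algebraMap ℤ ℂ) (FaithfulSMul.algebraMap_injective ℤ ℂ) ?_
  refine Polynomial.eq_of_infinite_eval_eq _ _ (Set.Infinite.mono ?_ (Set.finite_singleton (0 : ℂ)).infinite_compl)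
  intro x hx
  have hx : x ≠ 0 := hx
  show eval x _ = eval x _
  rw [eval_map_algebraMap, eval_map_algebraMap, map_mul (aeval x), aeval_C, coeff_zero_eq_aeval_zero]
  have h0 : algebraMap ℤ ℂ (aeval (0 : ℤ) P) = aeval (0 : ℂ) P := by
    rw [← aeval_algebraMap_apply, map_zero]
  rw [h0, ← key x hx, map_sum, aeval_eq_sum_range (p := P), Finset.mul_sum]
  refine Finset.sum_congr rfl fun j hj => ?_
  have hjn : j ≤ n := Nat.lt_succ_iff.1 (Finset.mem_range.1 hj)
  simp only [map_mul, map_pow, aeval_X, aeval_C, eq_intCast, map_intCast, Int.cast_mul, Int.cast_pow, zsmul_eq_mul, div_pow]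
  rw [show x ^ n = x ^ (n - j) * x ^ j by rw [← pow_add, Nat.sub_add_cancel hjn]]
  simp only [n]
  field_simp

theorem coeff_symm (hm : P.Monic) (hq : q ≠ 0)
    (hw : ∀ z ∈ P.aroots ℂ, z * starRingEnd ℂ z = (q : ℂ)) {j : ℕ} (hj : j ≤ P.natDegree) :
    P.coeff j * q ^ j = P.coeff 0 * P.coeff (P.natDegree - j) := by
  classical
  have h := congrArg (fun f => f.coeff (P.natDegree - j)) (reciprocal_eq hm hq hw)
  simp only [finset_sum_coeff, coeff_C_mul, coeff_X_pow] at h
  rw [Finset.sum_eq_single j (fun i hi hne => by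
      rw [if_neg (by have := Finset.mem_range.1 hi; omega), mul_zero])
    (fun hn => absurd (Finset.mem_range.2 (by omega)) hn), if_pos rfl, mul_one] at h
  exact h

/-- **Weil polynomials of even degree are symmetric.** -/
theorem exists_isSymm (hm : P.Monic) (hq : q ≠ 0)
    (hw : ∀ z ∈ P.aroots ℂ, z * starRingEnd ℂ z = (q : ℂ)) {D : ℕ} (hdeg : P.natDegree = 2 * D) :
    ∃ ε : ℤ, ε * ε = 1 ∧ IsSymm q ε D P := by
  have h0 := coeff_symm hm hq hw le_rfl
  rw [hm.coeff_natDegree, one_mul, Nat.sub_self, hdeg, mul_comm 2 D, pow_mul, ← sq] at h0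
  obtain ⟨ε, hε, he⟩ : ∃ ε : ℤ, ε * ε = 1 ∧ P.coeff 0 = ε * q ^ D := by
    rcases sq_eq_sq_iff_eq_or_eq_neg.1 h0.symm with h | h
    · exact ⟨1, one_mul 1, by rw [h, one_mul]⟩
    · exact ⟨-1, by norm_num, by rw [h, neg_one_mul]⟩
  refine ⟨ε, hε, fun r hr => mul_right_cancel₀ (pow_ne_zero (D - r) hq) ?_⟩
  rw [coeff_symm hm hq hw (show D - r ≤ P.natDegree by omega), he, show P.natDegree - (D - r) = D + r by omega]
  calc ε * q ^ D * P.coeff (D + r) = ε * (q ^ r * q ^ (D - r)) * P.coeff (D + r) := by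
        rw [← pow_add, Nat.add_sub_cancel' hr]
    _ = _ := by ring

/-- A nonzero root `x` is sent to the root `q / x`. -/
theorem aeval_div_eq_zero (hm : P.Monic) (hq : q ≠ 0) (hw : ∀ z ∈ P.aroots ℂ, z * starRingEnd ℂ z = (q : ℂ))
    {L : Type*} [Field L] [CharZero L] {x : L} (hx : x ≠ 0) (hP : aeval x P = 0) : aeval ((q : L) / x) P = 0 := by
  have h := congrArg (aeval ((q : L) / x)) (reciprocal_eq hm hq hw)
  rw [map_mul, aeval_C, map_sum] at h
  have h0 : P.coeff 0 ≠ 0 := fun h0 => by
    have h1 := coeff_symm hm hq hw le_rfl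
    rw [h0, zero_mul, hm.coeff_natDegree, one_mul] at h1
    exact pow_ne_zero _ hq h1
  have hsum : ∑ j ∈ Finset.range (P.natDegree + 1),
      aeval ((q : L) / x) (C (P.coeff j * q ^ j) * X ^ (P.natDegree - j)) = ((q : L) / x) ^ P.natDegree * aeval x P := by
    rw [aeval_eq_sum_range, Finset.mul_sum]
    refine Finset.sum_congr rfl fun j hj => ?_
    have hjn : j ≤ P.natDegree := Nat.lt_succ_iff.1 (Finset.mem_range.1 hj)
    rw [show ((q : L) / x) ^ P.natDegree = ((q : L) / x) ^ (P.natDegree - j) * ((q : L) / x) ^ j by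
      rw [← pow_add, Nat.sub_add_cancel hjn]]
    simp only [map_mul, map_pow, aeval_X, aeval_C, eq_intCast, map_intCast, Int.cast_mul, Int.cast_pow, zsmul_eq_mul, div_pow]
    field_simp
  rw [hsum, hP, mul_zero] at h
  exact (mul_eq_zero.1 h.symm).resolve_left (by simpa using h0)

end GrothLib.WeilOrd
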