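import Groth.Agent.Lib.TateThm.MinOrder
import Groth.Agent.Lib.WeilOrd.Sym
import Groth.Agent.Lib.Dim.Ring
import Groth.Agent.Lib.GorFlat.Rings
import Groth.Agent.Lib.LiaisonCM.AlmostCI

/-!
# The minimal central order
-/

set_option autoImplicit false
set_option linter.all false

universe u

open MvPolynomial
open GrothLib.TateThm (weilPoly monic_weilPoly aeval_weilPoly weilPoly_dvd linearIndependent_pow_weil)

noncomputable section

namespace GrothLib.WeilOrd

variable {ι : Type} [Fintype ι] {K : ι → Type u} [∀ i, Field (K i)] [∀ i, CharZero (K i)]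

/-- The evaluation at `(π, q / π)`. -/
def ev (q : ℤ) (ϖ : ∀ i, K i) : MvPolynomial (Fin 2) ℤ →ₐ[ℤ] (∀ i, K i) :=
  MvPolynomial.aeval ![fun i => ϖ i, fun i => (q : K i) / ϖ i]

theorem aeval_eq_ev (p e : ℕ) (ϖ : ∀ i, K i) :
    (MvPolynomial.aeval ![fun i => ϖ i, fun i => ((p : K i) ^ e) / ϖ i] : MvPolynomial (Fin 2) ℤ →ₐ[ℤ] (∀ i, K i)) =
      ev ((p : ℤ) ^ e) ϖ := by
  rw [ev]; simp

/-- The root condition. -/
def IsWeil (q : ℤ) (ϖ : ∀ i, K i) : Prop := ∀ i, ∀ z ∈ (minpoly ℤ (ϖ i)).aroots ℂ, z * starRingEnd ℂ z = (q : ℂ)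

omit [Fintype ι] in
theorem isWeil_of_norm {p e : ℕ} {ϖ : ∀ i, K i}
    (hweil : ∀ i, ∀ z ∈ (minpoly ℤ (ϖ i)).aroots ℂ, ‖z‖ = Real.sqrt ((p : ℝ) ^ e)) : IsWeil ((p : ℤ) ^ e) ϖ :=
  fun i z hz => by
    rw [Complex.mul_conj, Complex.normSq_eq_norm_sq, hweil i z hz, Real.sq_sqrt (by positivity)]
    simp

variable {q : ℤ} (hq : q ≠ 0) {ϖ : ∀ i, K i} (hint : ∀ i, IsIntegral ℤ (ϖ i)) (hw : IsWeil q ϖ)
  (hinj : ∀ i j, minpoly ℤ (ϖ i) = minpoly ℤ (ϖ j) → i = j)

omit [∀ i, CharZero (K i)] in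
theorem natDegree_weilPoly (hint : ∀ i, IsIntegral ℤ (ϖ i)) :
    (weilPoly ϖ).natDegree = ∑ i, (minpoly ℤ (ϖ i)).natDegree :=
  Polynomial.natDegree_prod_of_monic _ _ fun i _ => minpoly.monic (hint i)

omit [∀ i, CharZero (K i)] in
include hint hw in
theorem weil_roots {z : ℂ} (hz : z ∈ (weilPoly ϖ).aroots ℂ) : z * starRingEnd ℂ z = (q : ℂ) := by
  obtain ⟨-, h⟩ := Polynomial.mem_aroots.1 hz
  rw [weilPoly, map_prod, Finset.prod_eq_zero_iff] at h
  obtain ⟨i, -, hi⟩ := h
  exact hw i z (Polynomial.mem_aroots.2 ⟨(minpoly.monic (hint i)).ne_zero, hi⟩)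

omit [Fintype ι] in
include hq hint hw in
theorem ne_zero (i : ι) : ϖ i ≠ 0 := fun h0 => by
  have hz : (0 : ℂ) ∈ (minpoly ℤ (ϖ i)).aroots ℂ := by
    have h1 := minpoly.aeval ℤ (ϖ i)
    nth_rw 1 [h0] at h1
    rw [← Polynomial.coeff_zero_eq_aeval_zero', map_eq_zero_iff _ (algebraMap ℤ (K i)).injective_int] at h1
    exact Polynomial.mem_aroots.2 ⟨(minpoly.monic (hint i)).ne_zero,
      by rw [← Polynomial.coeff_zero_eq_aeval_zero', h1, map_zero]⟩
  exact hq (by simpa using (hw i 0 hz).symm)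

omit [Fintype ι] in
include hq hint hw in
theorem isIntegral_div (i : ι) : IsIntegral ℤ ((q : K i) / ϖ i) :=
  ⟨minpoly ℤ (ϖ i), minpoly.monic (hint i),
    aeval_div_eq_zero (minpoly.monic (hint i)) hq (hw i) (ne_zero hq hint hw i) (minpoly.aeval ℤ (ϖ i))⟩

include hq hint hw in
theorem isIntegral_ev (g : MvPolynomial (Fin 2) ℤ) : IsIntegral ℤ (ev q ϖ g) := by
  have h1 : IsIntegral ℤ (fun i => ϖ i) := ⟨weilPoly ϖ, monic_weilPoly ϖ hint, aeval_weilPoly ϖ⟩
  have h2 : IsIntegral ℤ (fun i => (q : K i) / ϖ i) := ⟨weilPoly ϖ, monic_weilPoly ϖ hint, funext fun i => by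
    show Pi.evalAlgHom ℤ K i (Polynomial.aeval (fun i => (q : K i) / ϖ i) (weilPoly ϖ)) = 0
    rw [← Polynomial.aeval_algHom_apply, weilPoly, map_prod]
    exact Finset.prod_eq_zero (Finset.mem_univ i) (aeval_div_eq_zero (minpoly.monic (hint i)) hq (hw i)
      (ne_zero hq hint hw i) (minpoly.aeval ℤ (ϖ i)))⟩
  induction g using MvPolynomial.induction_on with
  | C a => rw [← algebraMap_eq, AlgHom.commutes]; exact isIntegral_algebraMap
  | add a b ha hb => rw [map_add]; exact ha.add hb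
  | mul_X a j ha =>
    rw [map_mul]
    refine ha.mul ?_
    rw [ev, aeval_X]
    fin_cases j
    · exact h1
    · exact h2

omit [∀ i, CharZero (K i)] in
theorem ev_ofX (Q : Polynomial ℤ) : ev q ϖ (ofX Q) = Polynomial.aeval ϖ Q := by
  rw [ofX, ← Polynomial.aeval_algHom_apply, ev, aeval_X]
  rfl

omit [Fintype ι] in
include hq hint hw in
theorem ev_fq : ev q ϖ (fq q) = 0 := by
  funext i
  simp [ev, fq, mul_div_cancel₀ _ (ne_zero hq hint hw i)]

include hq hint hw in
theorem ev_h {D : ℕ} (h : MvPolynomial (Fin 2) ℤ) (hh : X 0 ^ D * h - ofX (weilPoly ϖ) ∈ Ideal.span {fq q}) :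
    ev q ϖ h = 0 := by
  obtain ⟨c, hc⟩ := Ideal.mem_span_singleton'.1 hh
  have h1 := congrArg (ev q ϖ) hc
  rw [map_mul, ev_fq hq hint hw, mul_zero, map_sub, map_mul, map_pow, ev_ofX, aeval_weilPoly, sub_zero] at h1
  funext i
  have h2 := congrFun h1 i
  simp only [ev, aeval_X, Pi.mul_apply, Pi.pow_apply, Pi.zero_apply, Matrix.cons_val_zero] at h2
  exact (mul_eq_zero.1 h2.symm).resolve_left (pow_ne_zero _ (ne_zero hq hint hw i))

variable {D : ℕ} (hD : ∑ i, (minpoly ℤ (ϖ i)).natDegree = 2 * D)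

include hint hinj in
theorem weilPoly_dvd_int {G : Polynomial ℤ} (hG : Polynomial.aeval ϖ G = 0) : weilPoly ϖ ∣ G :=
  (Polynomial.map_dvd_map _ (RingHom.injective_int _) (monic_weilPoly ϖ hint)).1 (weilPoly_dvd ϖ hint hinj hG)

include hq hint hw hinj hD in
/-- **The kernel is `(f, h)`.** -/
theorem ker_ev (h : MvPolynomial (Fin 2) ℤ) (hh : X 0 ^ D * h - ofX (weilPoly ϖ) ∈ Ideal.span {fq q}) :
    RingHom.ker (ev q ϖ) = Ideal.span {fq q, h} := by
  have hm := monic_weilPoly ϖ hint
  have hdeg := (natDegree_weilPoly hint).trans hD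
  obtain ⟨ε, hε, hs⟩ := exists_isSymm hm hq (fun z hz => weil_roots hint hw hz) hdeg
  refine le_antisymm (fun g hg => ?_) (Ideal.span_le.2 ?_)
  · obtain ⟨N, G, hG⟩ := exists_reduce q g
    obtain ⟨c, hc⟩ := Ideal.mem_span_singleton'.1 hG
    have h1 := congrArg (ev q ϖ) hc
    rw [map_mul, ev_fq hq hint hw, mul_zero, map_sub, map_mul, show ev q ϖ g = 0 from hg, mul_zero, zero_sub, ev_ofX,
      eq_comm, neg_eq_zero] at h1
    obtain ⟨G', hG'⟩ := weilPoly_dvd_int hint hinj h1
    have hmem : X 0 ^ N * g ∈ Ideal.span {fq q, h} := by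
      obtain ⟨d, hd⟩ := Ideal.mem_span_singleton'.1 hh
      refine Ideal.mem_span_pair.2 ⟨c - d * ofX G', X 0 ^ D * ofX G', ?_⟩
      rw [sub_mul, hc, hG', map_mul, mul_right_comm d, hd]
      ring
    rw [span_pair_eq hq hdeg.le hs h hh] at hmem ⊢
    exact cancel_X0_pow_pair hq hm hdeg hε N hmem
  · rintro x (rfl | rfl)
    · exact ev_fq hq hint hw
    · exact ev_h hq hint hw _ hh

include hq hint hw hD in
theorem exists_h : ∃ h : MvPolynomial (Fin 2) ℤ, X 0 ^ D * h - ofX (weilPoly ϖ) ∈ Ideal.span {fq q} := by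
  have hdeg := (natDegree_weilPoly hint).trans hD
  obtain ⟨ε, hε, hs⟩ := exists_isSymm (monic_weilPoly ϖ hint) hq (fun z hz => weil_roots hint hw hz) hdeg
  exact ⟨_, hcan_spec hq hdeg.le hs⟩

include hq hint hw in
theorem finite_range : Module.Finite ℤ (ev q ϖ).range := by
  haveI : Algebra.FiniteType ℤ (ev q ϖ).range :=
    Algebra.FiniteType.of_surjective (ev q ϖ).rangeRestrict (AlgHom.rangeRestrict_surjective _)
  haveI : Algebra.IsIntegral ℤ (ev q ϖ).range := ⟨fun ⟨x, g, hg⟩ => (isIntegral_algHom_iff (ev q ϖ).range.val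
    Subtype.val_injective).1 (hg ▸ isIntegral_ev hq hint hw g)⟩
  exact Algebra.IsIntegral.finite

theorem free_range [Module.Finite ℤ (ev q ϖ).range] : Module.Free ℤ (ev q ϖ).range := by
  haveI : Module.IsTorsionFree ℤ (ev q ϖ).range := by
    refine Module.IsTorsionFree.of_smul_eq_zero fun m x hmx => ?_
    refine or_iff_not_imp_left.2 fun hm => Subtype.ext (funext fun i => ?_)
    have h := congrFun (congrArg Subtype.val hmx) i
    simp only [SetLike.val_smul, ZeroMemClass.coe_zero, Pi.smul_apply, Pi.zero_apply, zsmul_eq_mul] at h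
    exact (mul_eq_zero.1 h).resolve_left (Int.cast_ne_zero.2 hm)
  exact Module.free_of_finite_type_torsion_free'

include hq hint hw in
theorem exists_smul_mem_pow (g : MvPolynomial (Fin 2) ℤ) :
    ∃ (n : ℤ) (G : Polynomial ℤ), n ≠ 0 ∧ n • ev q ϖ g = Polynomial.aeval ϖ G := by
  have hP := aeval_weilPoly ϖ
  let a := (weilPoly ϖ).coeff 0
  have ha : a ≠ 0 := fun ha => by
    have hz : (0 : ℂ) ∈ (weilPoly ϖ).aroots ℂ := Polynomial.mem_aroots.2 ⟨(monic_weilPoly ϖ hint).ne_zero,
      by rw [← Polynomial.coeff_zero_eq_aeval_zero']; simp [show (weilPoly ϖ).coeff 0 = 0 from ha]⟩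
    exact hq (by simpa using (weil_roots hint hw hz).symm)
  induction g using MvPolynomial.induction_on with
  | C c => exact ⟨1, Polynomial.C c, one_ne_zero, by rw [one_smul, ← algebraMap_eq, AlgHom.commutes, Polynomial.aeval_C]⟩
  | add x y hx hy =>
    obtain ⟨n, G, hn, hG⟩ := hx
    obtain ⟨m, H, hm, hH⟩ := hy
    refine ⟨n * m, m • G + n • H, mul_ne_zero hn hm, ?_⟩
    rw [map_add, map_add, map_zsmul, map_zsmul, ← hG, ← hH, smul_smul, smul_smul, smul_add, mul_comm m n]
  | mul_X x j hx =>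
    obtain ⟨n, G, hn, hG⟩ := hx
    have hX0 : ev q ϖ (X 0) = ϖ := by rw [ev, aeval_X]; rfl
    fin_cases j
    · refine ⟨n, G * Polynomial.X, hn, ?_⟩
      show n • ev q ϖ (x * X 0) = _
      rw [map_mul, map_mul, ← smul_mul_assoc, hG, hX0, Polynomial.aeval_X]
    · refine ⟨n * a, G * (Polynomial.C (-q) * (weilPoly ϖ).divX), mul_ne_zero hn ha, ?_⟩
      show (n * a) • ev q ϖ (x * X 1) = _
      rw [map_mul, map_mul, ← smul_smul, ← mul_smul_comm, ← smul_mul_assoc, hG]
      congr 1
      funext i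
      have hi := congrFun hP i
      rw [← Polynomial.X_mul_divX_add (weilPoly ϖ)] at hi
      simp only [map_add, map_mul, Polynomial.aeval_X, Polynomial.aeval_C, Pi.add_apply, Pi.mul_apply, Pi.zero_apply,
        Pi.algebraMap_apply, eq_intCast, map_intCast, Pi.intCast_apply] at hi
      simp only [ev, aeval_X, Pi.smul_apply, zsmul_eq_mul, map_mul, Polynomial.aeval_C, Pi.mul_apply,
        Pi.algebraMap_apply, eq_intCast, map_intCast, map_neg, Pi.neg_apply, Pi.intCast_apply, Int.cast_neg, Matrix.cons_val_one, Matrix.cons_val_zero]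
      field_simp [ne_zero hq hint hw i]
      linear_combination hi

include hq hint hw hinj in
theorem finrank_range [Module.Finite ℤ (ev q ϖ).range] :
    Module.finrank ℤ (ev q ϖ).range = (weilPoly ϖ).natDegree := by
  haveI := free_range (q := q) (ϖ := ϖ)
  let v : Fin (weilPoly ϖ).natDegree → (∀ i, K i) := fun i => ϖ ^ (i : ℕ)
  have hv := linearIndependent_pow_weil ϖ hint hinj
  refine le_antisymm ?_ ?_
  · let b := Module.finBasis ℤ (ev q ϖ).range
    choose g hg using fun j => (AlgHom.mem_range (ev q ϖ)).1 (b j).2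
    choose n G hn hG using fun j => exists_smul_mem_pow hq hint hw (g j)
    have hmem : ∀ j, n j • (b j : ∀ i, K i) ∈ Submodule.span ℤ (Set.range v) := fun j => by
      rw [← hg j, hG j,
        ← Polynomial.modByMonic_add_div (G j) (weilPoly ϖ), map_add, map_mul, aeval_weilPoly, zero_mul, add_zero,
        Polynomial.aeval_eq_sum_range' (n := (weilPoly ϖ).natDegree + 1)
          (Nat.lt_succ_of_le (Polynomial.natDegree_modByMonic_le _ (monic_weilPoly ϖ hint))), Finset.sum_range_succ]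
      refine add_mem (Submodule.sum_mem _ fun i hi => Submodule.smul_mem _ _
        (Submodule.subset_span ⟨⟨i, Finset.mem_range.1 hi⟩, rfl⟩)) ?_
      have hz : (G j %ₘ weilPoly ϖ).coeff (weilPoly ϖ).natDegree = 0 := by
        refine Polynomial.coeff_eq_zero_of_degree_lt ?_
        rw [← Polynomial.degree_eq_natDegree (monic_weilPoly ϖ hint).ne_zero]
        exact Polynomial.degree_modByMonic_lt _ (monic_weilPoly ϖ hint)
      rw [hz, zero_smul]
      exact zero_mem _
    haveI : Module.Finite ℤ (Submodule.span ℤ (Set.range v)) := Module.Finite.span_of_finite ℤ (Set.finite_range v)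
    have hli : LinearIndependent ℤ fun j => (⟨_, hmem j⟩ : Submodule.span ℤ (Set.range v)) := by
      refine Fintype.linearIndependent_iff.2 fun c hc j => ?_
      have h := congrArg Subtype.val hc
      have h2 : (∑ j, (c j * n j) • b j) = 0 := Subtype.ext (by
        refine Eq.trans ?_ h
        simp [smul_smul, AddSubmonoidClass.coe_finset_sum, mul_assoc])
      exact (mul_eq_zero.1 (Fintype.linearIndependent_iff.1 b.linearIndependent _ h2 j)).resolve_right (hn j)
    have h := hli.fintype_card_le_finrank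
    rwa [Fintype.card_fin, finrank_span_eq_card hv, Fintype.card_fin] at h
  · have hli : LinearIndependent ℤ fun i : Fin (weilPoly ϖ).natDegree =>
        (⟨ϖ, X 0, by rw [ev]; simp⟩ : (ev q ϖ).range) ^ (i : ℕ) :=
      LinearIndependent.of_comp ((ev q ϖ).range.val.toLinearMap) (by
        refine Fintype.linearIndependent_iff.2 fun c hc => Fintype.linearIndependent_iff.1 hv c ?_
        refine Eq.trans (Finset.sum_congr rfl fun i _ => ?_) hc
        simp [v])
    have h := hli.fintype_card_le_finrank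
    rwa [Fintype.card_fin] at h

include hq hint hw in
theorem ringKrullDim_range [Nonempty ι] : ringKrullDim (ev q ϖ).range = 1 := by
  haveI := finite_range hq hint hw
  have hinj : Function.Injective (algebraMap ℤ (ev q ϖ).range) := by
    refine (injective_iff_map_eq_zero _).2 fun m hm => ?_
    have h := congrFun (congrArg Subtype.val hm) (Classical.arbitrary ι)
    simpa using h
  rw [GrothLib.Dim.ringKrullDim_eq_of_isIntegral hinj, IsPrincipalIdealRing.ringKrullDim_eq_one _ Int.not_isField]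

/-- A quotient of a Gorenstein ring by a regular sequence is Gorenstein. -/
theorem isGorensteinRing_quot_ofList {R : Type u} [CommRing R] [hR : LocCoh.IsGorensteinRing R] (rs : List R)
    (hrs : RingTheory.Sequence.IsWeaklyRegular R rs) : LocCoh.IsGorensteinRing (R ⧸ Ideal.ofList rs) := by
  haveI : IsNoetherianRing R := hR.toIsNoetherian
  refine { isGorensteinLocalRing_localization := fun q _ => ?_ }
  obtain ⟨e⟩ := GrothLib.LiaisonCM.nonempty_localization_quot (Ideal.Quotient.mk (Ideal.ofList rs)) Ideal.Quotient.mk_surjective q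
  let Q := q.comap (Ideal.Quotient.mk (Ideal.ofList rs))
  let L := Localization.AtPrime Q
  haveI hL := hR.isGorensteinLocalRing_localization Q
  have hmem : ∀ r ∈ rs.map (algebraMap R L), r ∈ IsLocalRing.maximalIdeal L := by
    intro r hr
    obtain ⟨x, hx, rfl⟩ := List.mem_map.1 hr
    rw [← Localization.AtPrime.map_eq_maximalIdeal]
    refine Ideal.mem_map_of_mem _ ?_
    rw [Ideal.mem_comap, Ideal.Quotient.eq_zero_iff_mem.2 (Ideal.subset_span (show x ∈ {r | r ∈ rs} from hx))]
    exact zero_mem _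
  have hG := (GorFlat.gorenstein_quot_ofList _ (RingTheory.Sequence.IsWeaklyRegular.of_isLocalization L Q.primeCompl hrs) hmem).2 hL
  refine (GorFlat.gorenstein_congr ((Ideal.quotEquivOfEq ?_).trans e)).1 hG
  rw [Ideal.mk_ker, Ideal.map_ofList]

end GrothLib.WeilOrd

namespace GrothLib.WeilOrd

variable {ι : Type} [Fintype ι] {K : ι → Type u} [∀ i, Field (K i)] [∀ i, CharZero (K i)]
variable {q : ℤ} (hq : q ≠ 0) {ϖ : ∀ i, K i} (hint : ∀ i, IsIntegral ℤ (ϖ i)) (hw : IsWeil q ϖ)
  (hinj : ∀ i j, minpoly ℤ (ϖ i) = minpoly ℤ (ϖ j) → i = j) {D : ℕ} (hD : ∑ i, (minpoly ℤ (ϖ i)).natDegree = 2 * D)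

include hq hint hw hinj hD in
/-- **The minimal central order is Gorenstein.** -/
theorem isGorensteinRing_range : LocCoh.IsGorensteinRing (ev q ϖ).range := by
  obtain ⟨h, hh⟩ := exists_h hq hint hw hD
  have hreg := isWeaklyRegular hq (monic_weilPoly ϖ hint).ne_zero h hh
  let A := ULift.{u} (MvPolynomial (Fin 2) ℤ)
  let e : A ≃+* MvPolynomial (Fin 2) ℤ := ULift.ringEquiv
  haveI : IsRegularRing A := IsRegularRing.of_ringEquiv e.symm
  haveI := GorFlat.isGorensteinRing_of_isRegularRing A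
  have hreg' : RingTheory.Sequence.IsWeaklyRegular A [e.symm (fq q), e.symm h] := by
    refine (AddEquiv.isWeaklyRegular_congr (e := e.symm.toAddEquiv) (as := [fq q, h]) ?_).1 hreg
    refine List.Forall₂.cons (fun x => ?_) (List.Forall₂.cons (fun x => ?_) List.Forall₂.nil) <;>
      exact map_mul e.symm _ x
  let φ : A →+* (ev q ϖ).range := (ev q ϖ).rangeRestrict.toRingHom.comp e.toRingHom
  have hφ : Function.Surjective φ := (AlgHom.rangeRestrict_surjective _).comp e.surjective
  have hker : RingHom.ker φ = Ideal.ofList [e.symm (fq q), e.symm h] := by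
    ext x
    rw [RingHom.mem_ker, Ideal.ofList_cons, Ideal.ofList_singleton, ← Ideal.span_insert,
      ← Set.image_pair (f := e.symm), ← Ideal.map_span, ← ker_ev hq hint hw hinj hD h hh]
    rw [show φ x = (ev q ϖ).rangeRestrict (e x) from rfl]
    constructor
    · intro hx
      exact (e.symm_apply_apply x) ▸ Ideal.mem_map_of_mem e.symm (show e x ∈ RingHom.ker (ev q ϖ) from congrArg Subtype.val hx)
    · intro hx
      obtain ⟨y, hy, rfl⟩ := (Ideal.mem_map_iff_of_surjective e.symm e.symm.surjective).1 hx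
      exact Subtype.ext (by simpa using hy)
  exact GorFlat.isGorensteinRing_of_ringEquiv
    ((Ideal.quotEquivOfEq hker.symm).trans (RingHom.quotientKerEquivOfSurjective hφ))
    (isGorensteinRing_quot_ofList _ hreg')

end GrothLib.WeilOrd
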