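import Mathlib

/-!
# Counting roots of norm one in an algebraic closure of the `p`-adic numbers
-/

set_option autoImplicit false
set_option linter.all false

open Polynomial

noncomputable section

namespace GrothLib.WeilOrd

variable {p : ℕ} [hp : Fact p.Prime]

theorem norm_intCast_le_one (a : ℤ) : ‖(a : PadicAlgCl p)‖ ≤ 1 := IsUltrametricDist.norm_intCast_le_one _ a

theorem norm_intCast_lt_one_iff (a : ℤ) : ‖(a : PadicAlgCl p)‖ < 1 ↔ (p : ℤ) ∣ a := by
  rw [← map_intCast (algebraMap ℚ_[p] (PadicAlgCl p)) a,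
    show ‖algebraMap ℚ_[p] (PadicAlgCl p) (a : ℚ_[p])‖ = ‖(a : ℚ_[p])‖ from PadicAlgCl.norm_extends p _,
    Padic.norm_intCast_lt_one_iff]

theorem norm_le_one_of_root {P : ℤ[X]} (hm : P.Monic) {z : PadicAlgCl p} (hz : aeval z P = 0) : ‖z‖ ≤ 1 := by
  by_contra h
  push Not at h
  rw [aeval_eq_sum_range, Finset.sum_range_succ, hm.coeff_natDegree, one_smul, add_eq_zero_iff_neg_eq] at hz
  have hn : P.natDegree ≠ 0 := fun h0 => by
    rw [h0, Finset.range_zero, Finset.sum_empty, neg_zero, pow_zero] at hz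
    exact zero_ne_one hz
  have h1 : ‖∑ i ∈ Finset.range P.natDegree, P.coeff i • z ^ i‖ ≤ ‖z‖ ^ (P.natDegree - 1) := by
    refine IsUltrametricDist.norm_sum_le_of_forall_le_of_nonneg (by positivity) fun i hi => ?_
    rw [zsmul_eq_mul, norm_mul, norm_pow]
    calc _ ≤ 1 * ‖z‖ ^ i := by gcongr; exact norm_intCast_le_one _
      _ = ‖z‖ ^ i := one_mul _
      _ ≤ _ := pow_le_pow_right₀ h.le (by have := Finset.mem_range.1 hi; omega)
  rw [← norm_neg, hz, norm_pow] at h1
  exact absurd h1 (not_le.2 (pow_lt_pow_right₀ h (by omega)))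

theorem coeff_prod_roots (R : Multiset (PadicAlgCl p)) (hR : ∀ z ∈ R, ‖z‖ ≤ 1) :
    (∀ k, ‖((R.map fun z => X - C z).prod).coeff k‖ ≤ 1) ∧
    (∀ k < (R.filter fun z => ¬ ‖z‖ = 1).card, ‖((R.map fun z => X - C z).prod).coeff k‖ < 1) ∧
    ‖((R.map fun z => X - C z).prod).coeff (R.filter fun z => ¬ ‖z‖ = 1).card‖ = 1 := by
  induction R using Multiset.induction_on with
  | empty => exact ⟨fun k => by rw [Multiset.map_zero, Multiset.prod_zero, coeff_one]; split_ifs <;> simp,
      fun k hk => absurd hk (by simp), by simp⟩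
  | cons z R ih =>
    obtain ⟨h1, h2, h3⟩ := ih fun w hw => hR w (Multiset.mem_cons_of_mem hw)
    have hz := hR z (Multiset.mem_cons_self z R)
    set Q := (R.map fun z => X - C z).prod with hQ
    set m := (R.filter fun z => ¬ ‖z‖ = 1).card with hm
    have h0 : ((Multiset.map (fun z => X - C z) (z ::ₘ R)).prod).coeff 0 = -(z * Q.coeff 0) := by
      rw [Multiset.map_cons, Multiset.prod_cons, ← hQ, sub_mul, coeff_sub, coeff_X_mul_zero, coeff_C_mul, zero_sub]
    have hs : ∀ k, ((Multiset.map (fun z => X - C z) (z ::ₘ R)).prod).coeff (k + 1) = Q.coeff k + -(z * Q.coeff (k + 1)) :=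
      fun k => by
        rw [Multiset.map_cons, Multiset.prod_cons, ← hQ, sub_mul, coeff_sub, coeff_X_mul, coeff_C_mul, sub_eq_add_neg]
    have hle : ∀ k, ‖-(z * Q.coeff k)‖ ≤ 1 := fun k => by
      rw [norm_neg, norm_mul]; exact mul_le_one₀ hz (norm_nonneg _) (h1 k)
    refine ⟨fun k => ?_, ?_⟩
    · rcases k with _ | k
      · rw [h0]; exact hle 0
      · rw [hs]; exact (IsUltrametricDist.norm_add_le_max _ _).trans (max_le (h1 k) (hle _))
    by_cases hu : ‖z‖ = 1
    · rw [Multiset.filter_cons_of_neg (p := fun z : PadicAlgCl p => ¬ ‖z‖ = 1) _ (not_not.2 hu), ← hm]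
      have he : ∀ k, ‖-(z * Q.coeff k)‖ = ‖Q.coeff k‖ := fun k => by rw [norm_neg, norm_mul, hu, one_mul]
      refine ⟨fun k hk => ?_, ?_⟩
      · rcases k with _ | k
        · rw [h0, he]; exact h2 0 hk
        · rw [hs]; exact (IsUltrametricDist.norm_add_le_max _ _).trans_lt (max_lt (h2 k (by omega)) (by rw [he]; exact h2 _ hk))
      · rcases hm' : m with _ | k
        · rw [h0, he, ← hm']; exact h3
        · rw [hs]
          have hlt : ‖Q.coeff k‖ < ‖-(z * Q.coeff (k + 1))‖ := by rw [he, ← hm', h3]; exact h2 k (by omega)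
          rw [IsUltrametricDist.norm_add_eq_max_of_norm_ne_norm hlt.ne, max_eq_right hlt.le, he, ← hm', h3]
    · rw [Multiset.filter_cons_of_pos (p := fun z : PadicAlgCl p => ¬ ‖z‖ = 1) _ hu, Multiset.card_cons, ← hm]
      have hlt : ∀ k, ‖-(z * Q.coeff k)‖ < 1 := fun k => by
        rw [norm_neg, norm_mul]; exact (mul_le_of_le_one_right (norm_nonneg _) (h1 k)).trans_lt (lt_of_le_of_ne hz hu)
      refine ⟨fun k hk => ?_, ?_⟩
      · rcases k with _ | k
        · rw [h0]; exact hlt 0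
        · rw [hs]; exact (IsUltrametricDist.norm_add_le_max _ _).trans_lt (max_lt (h2 k (by omega)) (hlt _))
      · rw [hs]
        have h4 : ‖-(z * Q.coeff (m + 1))‖ < ‖Q.coeff m‖ := by rw [h3]; exact hlt _
        rw [IsUltrametricDist.norm_add_eq_max_of_norm_ne_norm h4.ne', max_eq_left h4.le, h3]

/-- The number of roots of norm different from one is the order of the reduction. -/
theorem coeff_dvd_card {P : ℤ[X]} (hm : P.Monic) :
    (∀ k < ((P.aroots (PadicAlgCl p)).filter fun z => ¬ ‖z‖ = 1).card, (p : ℤ) ∣ P.coeff k) ∧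
      ¬ (p : ℤ) ∣ P.coeff ((P.aroots (PadicAlgCl p)).filter fun z => ¬ ‖z‖ = 1).card := by
  have hsplit : P.map (algebraMap ℤ (PadicAlgCl p)) = ((P.aroots (PadicAlgCl p)).map fun z => X - C z).prod :=
    (IsAlgClosed.splits _).eq_prod_roots_of_monic (hm.map _)
  obtain ⟨-, h2, h3⟩ := coeff_prod_roots (P.aroots (PadicAlgCl p))
    fun z hz => norm_le_one_of_root hm (mem_aroots.1 hz).2
  simp only [← hsplit, coeff_map, eq_intCast] at h2 h3
  exact ⟨fun k hk => (norm_intCast_lt_one_iff _).1 (h2 k hk), fun h => absurd ((norm_intCast_lt_one_iff _).2 h) (by rw [h3]; exact lt_irrefl _)⟩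

/-- Half of the roots are units iff the middle coefficient is prime to `p`. -/
theorem two_mul_card_unit_eq_iff {P : ℤ[X]} (hm : P.Monic) {d : ℕ} (hd : P.natDegree = 2 * d)
    (hlow : ∀ k < d, (p : ℤ) ∣ P.coeff k) :
    2 * ((P.aroots (PadicAlgCl p)).filter fun z => ‖z‖ = 1).card = P.natDegree ↔ ¬ (p : ℤ) ∣ P.coeff d := by
  obtain ⟨h1, h2⟩ := coeff_dvd_card (p := p) hm
  have hcard : ((P.aroots (PadicAlgCl p)).filter fun z => ‖z‖ = 1).card +
      ((P.aroots (PadicAlgCl p)).filter fun z => ¬ ‖z‖ = 1).card = P.natDegree := by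
    rw [← Multiset.card_add, Multiset.filter_add_not]
    show Multiset.card (P.map (algebraMap ℤ (PadicAlgCl p))).roots = _
    rw [IsAlgClosed.card_roots_eq_natDegree, hm.natDegree_map]
  set m := ((P.aroots (PadicAlgCl p)).filter fun z => ¬ ‖z‖ = 1).card
  have hdm : d ≤ m := not_lt.1 fun h => h2 (hlow m h)
  constructor
  · intro h
    rwa [show d = m by omega]
  · intro h
    have : m ≤ d := not_lt.1 fun h' => h (h1 d h')
    omega

theorem two_mul_card_unit_le {P : ℤ[X]} (hm : P.Monic) {d : ℕ} (hd : P.natDegree = 2 * d)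
    (hlow : ∀ k < d, (p : ℤ) ∣ P.coeff k) :
    2 * ((P.aroots (PadicAlgCl p)).filter fun z => ‖z‖ = 1).card ≤ P.natDegree := by
  obtain ⟨h1, h2⟩ := coeff_dvd_card (p := p) hm
  have hcard : ((P.aroots (PadicAlgCl p)).filter fun z => ‖z‖ = 1).card +
      ((P.aroots (PadicAlgCl p)).filter fun z => ¬ ‖z‖ = 1).card = P.natDegree := by
    rw [← Multiset.card_add, Multiset.filter_add_not]
    show Multiset.card (P.map (algebraMap ℤ (PadicAlgCl p))).roots = _
    rw [IsAlgClosed.card_roots_eq_natDegree, hm.natDegree_map]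
  have hdm : d ≤ ((P.aroots (PadicAlgCl p)).filter fun z => ¬ ‖z‖ = 1).card := not_lt.1 fun h => h2 (hlow _ h)
  omega

end GrothLib.WeilOrd
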