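import Mathlib

/-!
# Lifting invertible modules to a reduced ring of dimension at most one
-/

set_option autoImplicit false
set_option linter.all false
set_option backward.isDefEq.respectTransparency false

universe u v

open scoped Classical TensorProduct

noncomputable section

namespace GrothLib.WeilOrd

/-- An ideal with a nonzerodivisor principal multiple is invertible. -/
theorem invertible_of_mul_eq {R : Type u} [CommRing R] (𝔟 C : Ideal R) {w : R} (hw : w ∈ nonZeroDivisors R)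
    (h : 𝔟 * C = Ideal.span {w}) : Module.Invertible R 𝔟 := by
  let A := Localization (nonZeroDivisors R)
  haveI : FaithfulSMul R A := (faithfulSMul_iff_algebraMap_injective R A).2 (IsLocalization.injective A le_rfl)
  let ι := Algebra.linearMap R A
  have hι : Function.Injective ι := IsLocalization.injective A le_rfl
  obtain ⟨a, ha⟩ : IsUnit (algebraMap R A w) := IsLocalization.map_units A (⟨w, hw⟩ : nonZeroDivisors R)
  have hmul : Submodule.map ι 𝔟 * (Submodule.map ι C * Submodule.span R {((a⁻¹ : Aˣ) : A)}) = 1 := by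
    rw [← mul_assoc, show Submodule.map ι 𝔟 * Submodule.map ι C = Submodule.map ι (𝔟 * C) from
      (Submodule.map_mul 𝔟 C (Algebra.ofId R A)).symm, h, Ideal.span, Submodule.map_span, Set.image_singleton,
      Submodule.span_mul_span, Set.singleton_mul_singleton, show ι w = (a : A) from ha.symm, Units.mul_inv,
      Submodule.one_eq_span]
  have hu : IsUnit (Submodule.map ι 𝔟) := IsUnit.of_mul_eq_one _ hmul
  haveI : Module.Invertible R hu.unit.1 := inferInstance
  exact Module.Invertible.congr ((Submodule.equivMapOfInjective ι hι 𝔟).trans (LinearEquiv.ofEq _ _ hu.unit_spec.symm)).symm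

variable {R : Type u} [CommRing R]

/-- Separate a prime from finitely many others which are not below it. -/
theorem exists_mem_forall_mem (s : Finset (Ideal R)) (P : Ideal R) [hP : P.IsPrime] (h : ∀ Q ∈ s, ¬ Q ≤ P) :
    ∃ e : R, (∀ Q ∈ s, e ∈ Q) ∧ e ∉ P := by
  by_contra hc
  push Not at hc
  obtain ⟨Q, hQ, hle⟩ := hP.inf_le'.1 (show s.inf id ≤ P from fun e he => hc e fun Q hQ => (Finset.inf_le (f := id) hQ) he)
  exact h Q hQ hle

/-- A linear form and an element whose value avoids finitely many maximal ideals. -/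
theorem exists_value_avoiding (L : Type v) [AddCommGroup L] [Module R L] [Module.Invertible R L] (s : Finset (Ideal R))
    (hs : ∀ m ∈ s, m.IsMaximal) : ∃ (φ : L →ₗ[R] R) (x : L), ∀ m ∈ s, φ x ∉ m := by
  have hone : ∀ m ∈ s, ∃ (φ : L →ₗ[R] R) (x : L), φ x ∉ m := by
    intro m hm
    by_contra hc
    push Not at hc
    obtain ⟨z, hz⟩ := (Module.Invertible.bijective (R := R) (M := L)).2 1
    suffices h : ∀ z, contractLeft R L z ∈ m from (hs m hm).ne_top ((Ideal.eq_top_iff_one m).2 (hz ▸ h z))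
    intro z
    induction z with
    | zero => rw [map_zero]; exact zero_mem m
    | tmul f y => rw [contractLeft_apply]; exact hc f y
    | add a b ha hb => rw [map_add]; exact add_mem ha hb
  choose Φ X hΦ using hone
  have he : ∀ m ∈ s, ∃ e : R, (∀ Q ∈ s.erase m, e ∈ Q) ∧ e ∉ m := fun m hm => by
    haveI := (hs m hm).isPrime
    refine exists_mem_forall_mem _ m fun Q hQ hle => ?_
    obtain ⟨hne, hQs⟩ := Finset.mem_erase.1 hQ
    exact hne ((hs Q hQs).eq_of_le (hs m hm).ne_top hle)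
  choose e he he' using he
  refine ⟨∑ m ∈ s.attach, e m.1 m.2 • Φ m.1 m.2, ∑ m ∈ s.attach, e m.1 m.2 • X m.1 m.2, fun m hm hmem => ?_⟩
  have hP := (hs m hm).isPrime
  refine hP.mul_notMem (he' m hm) (hP.mul_notMem (he' m hm) (hΦ m hm)) ?_
  rw [← Ideal.Quotient.eq_zero_iff_mem] at hmem ⊢
  rw [← hmem]
  simp only [LinearMap.sum_apply, LinearMap.smul_apply, map_sum, map_smul, smul_eq_mul, Finset.mul_sum]
  have hoff : ∀ p : {x // x ∈ s}, p ≠ ⟨m, hm⟩ → e p.1 p.2 ∈ m := fun p hp =>
    he p.1 p.2 m (Finset.mem_erase.2 ⟨fun h => hp (Subtype.ext h.symm), hm⟩)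
  rw [Finset.sum_eq_single_of_mem (⟨m, hm⟩ : {x // x ∈ s}) (Finset.mem_attach _ _) (fun p _ hp =>
      Finset.sum_eq_zero fun r _ => ?_),
    Finset.sum_eq_single_of_mem (⟨m, hm⟩ : {x // x ∈ s}) (Finset.mem_attach _ _) (fun r _ hr => ?_)]
  · rw [Ideal.Quotient.eq_zero_iff_mem]
    exact Ideal.mul_mem_left _ _ (Ideal.mul_mem_right _ _ (hoff r hr))
  · rw [Ideal.Quotient.eq_zero_iff_mem]
    exact Ideal.mul_mem_right _ _ (hoff p hp)

/-- In a reduced ring the minimal primes meet in zero. -/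
theorem eq_zero_of_forall_minimalPrimes [IsReduced R] {y : R} (h : ∀ P ∈ minimalPrimes R, y ∈ P) : y = 0 := by
  have h1 : y ∈ (⊥ : Ideal R).radical := by
    rw [← Ideal.sInf_minimalPrimes]
    exact Submodule.mem_sInf.2 h
  obtain ⟨n, hn⟩ := h1
  exact IsReduced.eq_zero y ⟨n, by simpa using hn⟩

/-- Primes containing an ideal and its annihilator are maximal. -/
theorem isMaximal_of_le_of_annihilator_le [IsNoetherianRing R] [IsReduced R]
    (hdim : ∀ P : Ideal R, P.IsPrime → P ∈ minimalPrimes R ∨ P.IsMaximal) (I : Ideal R) (P : Ideal R)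
    (hP : P.IsPrime) (hI : I ≤ P) (hJ : Submodule.annihilator I ≤ P) : P.IsMaximal := by
  refine (hdim P hP).resolve_left fun hmin => ?_
  let s := (minimalPrimes.finite_of_isNoetherianRing R).toFinset.erase P
  obtain ⟨c, hc, hcP⟩ := exists_mem_forall_mem s P fun Q hQ hle => by
    obtain ⟨hne, hQmem⟩ := Finset.mem_erase.1 hQ
    rw [Set.Finite.mem_toFinset] at hQmem
    exact hne (le_antisymm hle (hmin.2 hQmem.1 hle))
  refine hcP (hJ (Submodule.mem_annihilator.2 fun i hi => eq_zero_of_forall_minimalPrimes fun Q hQ => ?_))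
  by_cases hQP : Q = P
  · exact hQP ▸ Ideal.mul_mem_left _ _ (hI hi)
  · exact Ideal.mul_mem_right _ _ (hc Q (Finset.mem_erase.2 ⟨hQP, (Set.Finite.mem_toFinset _).2 hQ⟩))

variable {S : Type v} [CommRing S]

/-- The forms of an invertible module multiply to the principal ideal of a value. -/
theorem range_mul_range {L : Type v} [AddCommGroup L] [Module S L] [Module.Invertible S L] (φ : L →ₗ[S] S) (x : L) :
    LinearMap.range φ * LinearMap.range (Module.Dual.eval S L x) = Ideal.span {φ x} := by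
  have key : ∀ (g : L →ₗ[S] S) (y : L), φ y * g x = φ x * g y := fun g y => by
    have h := congrArg (fun z => TensorProduct.lid S S (TensorProduct.map φ g z))
      (Module.Invertible.tmul_comm (R := S) (m₁ := y) (m₂ := x))
    simpa only [TensorProduct.map_tmul, TensorProduct.lid_tmul, smul_eq_mul] using h
  refine le_antisymm (Ideal.mul_le.2 ?_) ((Ideal.span_singleton_le_iff_mem _).2 ?_)
  · rintro _ ⟨y, rfl⟩ _ ⟨g, rfl⟩
    exact Ideal.mem_span_singleton'.2 ⟨g y, by rw [Module.Dual.eval_apply, key, mul_comm]⟩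
  · obtain ⟨z, hz⟩ := (Module.Invertible.bijective (R := S) (M := L)).2 1
    suffices h : ∀ z, φ x * contractLeft S L z ∈ LinearMap.range φ * LinearMap.range (Module.Dual.eval S L x) by
      have := h z
      rwa [hz, mul_one] at this
    intro z
    induction z with
    | zero => rw [map_zero, mul_zero]; exact zero_mem _
    | add a b ha hb => rw [map_add, mul_add]; exact add_mem ha hb
    | tmul g y =>
      rw [contractLeft_apply, ← key g y]
      exact Ideal.mul_mem_mul ⟨y, rfl⟩ ⟨g, rfl⟩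

theorem exists_bad [IsNoetherianRing S] (Jb : Ideal S) (hmax : ∀ m : Ideal S, m.IsPrime → Jb ≤ m → m.IsMaximal) :
    ∃ B : Finset (Ideal S), (∀ m ∈ B, m.IsMaximal) ∧ (∀ m : Ideal S, m.IsPrime → Jb ≤ m → m ∈ B) ∧
      ∀ P ∈ minimalPrimes S, ∃ m ∈ B, P ≤ m := by
  obtain ⟨T, hT⟩ := (Ideal.finite_minimalPrimes_of_isNoetherianRing S Jb).exists_finset
  obtain ⟨Mn, hMn⟩ := (minimalPrimes.finite_of_isNoetherianRing S).exists_finset
  choose μ hμ hμle using fun P : {P // P ∈ Mn} => Ideal.exists_le_maximal P.1 ((hMn P.1).1 P.2).1.1.ne_top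
  refine ⟨T ∪ Finset.univ.image μ, fun m hm => ?_, fun m hm hle => ?_, fun P hP =>
    ⟨μ ⟨P, (hMn P).2 hP⟩, Finset.mem_union_right _ (Finset.mem_image.2 ⟨_, Finset.mem_univ _, rfl⟩),
      hμle ⟨P, (hMn P).2 hP⟩⟩⟩
  · rcases Finset.mem_union.1 hm with h | h
    · exact hmax m ((hT m).1 h).1.1 ((hT m).1 h).1.2
    · obtain ⟨P, -, rfl⟩ := Finset.mem_image.1 h
      exact hμ P
  · exact Finset.mem_union_left _ ((hT m).2 ⟨⟨hm, hle⟩, fun m' hm' h' =>
      ((hmax m' hm'.1 hm'.2).eq_of_le hm.ne_top h') ▸ le_rfl⟩)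

/-- The choices made near the bad locus. -/
theorem exists_data [IsNoetherianRing R] [IsReduced R] [IsNoetherianRing S] [IsReduced S]
    (hdim : ∀ P : Ideal R, P.IsPrime → P ∈ minimalPrimes R ∨ P.IsMaximal) (f : R →+* S) (hf : Function.Surjective f)
    (L : Type v) [AddCommGroup L] [Module S L] [Module.Invertible S L] :
    ∃ (φ : L →ₗ[S] S) (x : L) (w u' : R) (i₀ : R), (∀ y : S, φ x * y = 0 → y = 0) ∧ w ∈ nonZeroDivisors R ∧
      i₀ ∈ RingHom.ker f ∧ f w = f u' * φ x ∧ (∀ i ∈ RingHom.ker f, i * w = i) ∧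
      w ∈ Ideal.span {u'} ⊔ RingHom.ker f := by
  let I := RingHom.ker f
  let J := Submodule.annihilator I
  let Jb := J.map f
  have hmaxS : ∀ m : Ideal S, m.IsPrime → Jb ≤ m → m.IsMaximal := fun m hm hle => by
    haveI := hm
    haveI := isMaximal_of_le_of_annihilator_le hdim I (m.comap f) inferInstance (fun i hi => by
      rw [Ideal.mem_comap, RingHom.mem_ker.1 hi]; exact zero_mem _) (Ideal.map_le_iff_le_comap.1 hle)
    have h := (Ideal.map_eq_top_or_isMaximal_of_surjective f hf ‹(m.comap f).IsMaximal›).resolve_left (fun htop =>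
      hm.ne_top (by rwa [Ideal.map_comap_of_surjective f hf] at htop))
    rwa [Ideal.map_comap_of_surjective f hf] at h
  obtain ⟨B, hB, hBJ, hBmin⟩ := exists_bad Jb hmaxS
  obtain ⟨φ, x, hφ⟩ := exists_value_avoiding L B hB
  have hnzd : ∀ z : S, (∀ m ∈ B, z ∉ m) → ∀ y, z * y = 0 → y = 0 := fun z hz y hy =>
    eq_zero_of_forall_minimalPrimes fun Q hQ =>
      (hQ.1.1.mem_or_mem (show z * y ∈ Q by rw [hy]; exact zero_mem _)).resolve_left fun h => by
        obtain ⟨m, hm, hle⟩ := hBmin Q hQ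
        exact hz m hm (hle h)
  have htN : Ideal.span {φ x} ⊔ Jb * ∏ m ∈ B, m = ⊤ := by
    by_contra hne
    obtain ⟨M, hM, hle⟩ := Ideal.exists_le_maximal _ hne
    obtain ⟨h1, h2⟩ := sup_le_iff.1 hle
    have ht : φ x ∈ M := h1 (Ideal.mem_span_singleton_self _)
    rcases hM.isPrime.mul_le.1 h2 with h | h
    · exact hφ M (hBJ M hM.isPrime h) ht
    · obtain ⟨m, hm, hmM⟩ := hM.isPrime.prod_le.1 h
      exact hφ m hm ((hB m hm).eq_of_le hM.ne_top hmM ▸ ht)
  obtain ⟨N, hN⟩ : ∃ N : Ideal S, N = Jb * ∏ m ∈ B, m := ⟨_, rfl⟩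
  rw [← hN] at htN
  have hone : (1 : S) ∈ Ideal.span {φ x} ⊔ N := by rw [htN]; exact Submodule.mem_top
  obtain ⟨a, ha, n, hn', han⟩ := Submodule.mem_sup.1 hone
  have hn : n ∈ Jb * ∏ m ∈ B, m := hN ▸ hn' 
  obtain ⟨u, hua⟩ := Ideal.mem_span_singleton'.1 ha
  rw [← hua] at han
  have hu : ∀ m ∈ B, u * φ x ∉ m := fun m hm hmem => by
    have h1 : n ∈ ∏ m ∈ B, m := Ideal.mul_le_right hn
    have h2 : n ∈ m := by
      have h3 : (∏ m ∈ B, m) ≤ m := Ideal.le_of_dvd (Finset.dvd_prod_of_mem (fun m : Ideal S => m) hm)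
      exact h3 h1
    have h4 : (1 : S) ∈ m := by rw [← han]; exact add_mem hmem h2
    exact (hB m hm).ne_top ((Ideal.eq_top_iff_one m).2 h4)
  obtain ⟨t', ht'⟩ := hf (φ x)
  obtain ⟨u', hu'⟩ := hf u
  obtain ⟨j, hjJ, hj⟩ := (Ideal.mem_map_iff_of_surjective f hf).1 (Ideal.mul_le_left hn : n ∈ Jb)
  have hi₀ : 1 - j - u' * t' ∈ I := by
    rw [RingHom.mem_ker, map_sub, map_sub, map_mul, map_one, hj, hu', ht', ← han]; ring
  have hwJ : ∀ i ∈ I, i * (1 - j) = i := fun i hi => by
    rw [mul_sub, mul_one, mul_comm i j, show j * i = 0 from Submodule.mem_annihilator.1 hjJ i hi, sub_zero]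
  have hfw : f (1 - j) = u * φ x := by rw [map_sub, map_one, hj, ← han]; ring
  have h1 : ∀ y : S, φ x * y = 0 → y = 0 := hnzd (φ x) hφ
  have h2 : 1 - j ∈ nonZeroDivisors R := mem_nonZeroDivisors_iff_right.2 fun y hy => by
    have hyI : y ∈ I := hnzd (u * φ x) hu (f y) (by rw [← hfw, mul_comm, ← map_mul, hy, map_zero])
    rw [hwJ y hyI] at hy
    exact hy
  have h3 : f (1 - j) = f u' * φ x := by rw [hfw, hu']
  have h4 : 1 - j ∈ Ideal.span {u'} ⊔ I := by
    rw [show 1 - j = u' * t' + (1 - j - u' * t') by ring]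
    exact Submodule.add_mem_sup (Ideal.mul_mem_right _ _ (Ideal.mem_span_singleton_self u')) hi₀
  exact ⟨φ, x, 1 - j, u', 1 - j - u' * t', h1, h2, hi₀, h3, hwJ, h4⟩

/-- **Invertible modules over the quotient lift.** -/
theorem exists_invertible_lift [IsNoetherianRing R] [IsReduced R] [IsNoetherianRing S] [IsReduced S] [Algebra R S]
    (hdim : ∀ P : Ideal R, P.IsPrime → P ∈ minimalPrimes R ∨ P.IsMaximal) (hf : Function.Surjective (algebraMap R S))
    (L : Type v) [AddCommGroup L] [Module S L] [Module.Invertible S L] :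
    ∃ 𝔟 : Ideal R, Module.Invertible R 𝔟 ∧ Nonempty (S ⊗[R] 𝔟 ≃ₗ[S] L) := by
  let f := algebraMap R S
  let I := RingHom.ker f
  obtain ⟨φ, x, w, u', i₀, htnzd, hw, -, hfw, hwI, hwu⟩ := exists_data hdim f hf L
  let 𝔞 : Ideal S := LinearMap.range φ
  let 𝔞' : Ideal S := LinearMap.range (Module.Dual.eval S L x)
  let 𝔟 : Ideal R := 𝔞.comap f
  let C : Ideal R := 𝔞'.comap f * (Ideal.span {u'} ⊔ I)
  have hle : ∀ T : Ideal S, I ≤ T.comap f := fun T i hi => by
    rw [Ideal.mem_comap, RingHom.mem_ker.1 hi]; exact zero_mem _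
  have hwmem : ∀ T : Ideal S, φ x ∈ T → w ∈ T.comap f := fun T hT => by
    rw [Ideal.mem_comap, hfw]; exact Ideal.mul_mem_left _ _ hT
  have hIbC : I ≤ 𝔟 * C := fun i hi => by
    rw [show i = i * w * w by rw [hwI i hi, hwI i hi], mul_assoc]
    exact Ideal.mul_mem_mul (hle _ hi) (Ideal.mul_mem_mul (hwmem _ ⟨φ, rfl⟩) hwu)
  have hmapC : (𝔟 * C).map f = Ideal.span {f w} := by
    rw [Ideal.map_mul, Ideal.map_mul, Ideal.map_sup, Ideal.map_span, Set.image_singleton,
      Ideal.map_comap_of_surjective f hf, Ideal.map_comap_of_surjective f hf, (Ideal.map_eq_bot_iff_le_ker f).2 le_rfl,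
      sup_bot_eq, ← mul_assoc, range_mul_range φ x, Ideal.span_singleton_mul_span_singleton, hfw, mul_comm]
  have hbC : 𝔟 * C = Ideal.span {w} := by
    refine le_antisymm (fun y hy => ?_) ((Ideal.span_singleton_le_iff_mem _).2 ?_)
    · obtain ⟨c, hc⟩ := Ideal.mem_span_singleton'.1 (hmapC ▸ Ideal.mem_map_of_mem f hy)
      obtain ⟨c', rfl⟩ := hf c
      have hI : y - c' * w ∈ I := by rw [RingHom.mem_ker, map_sub, map_mul, hc, sub_self]
      exact Ideal.mem_span_singleton'.2 ⟨c' + (y - c' * w), by rw [add_mul, hwI _ hI]; ring⟩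
    · obtain ⟨y, hy, hyw⟩ := (Ideal.mem_map_iff_of_surjective f hf).1 (hmapC.ge (Ideal.mem_span_singleton_self (f w)))
      rw [show w = y + (w - y) by ring]
      exact add_mem hy (hIbC (by rw [RingHom.mem_ker, map_sub, hyw, sub_self]))
  haveI := invertible_of_mul_eq 𝔟 C hw hbC
  have hφinj : Function.Injective φ := (injective_iff_map_eq_zero φ).2 fun y hy => by
    refine (Module.forall_dual_apply_eq_zero_iff S y).1 fun g => htnzd _ ?_
    have h := congrArg (fun z => TensorProduct.lid S S (TensorProduct.map φ g z))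
      (Module.Invertible.tmul_comm (R := S) (m₁ := y) (m₂ := x))
    simp only [TensorProduct.map_tmul, TensorProduct.lid_tmul, smul_eq_mul, hy, zero_mul] at h
    exact h.symm
  let eL := LinearEquiv.ofInjective φ hφinj
  haveI : Module.Invertible S 𝔞 := Module.Invertible.congr eL
  let g₀ : 𝔟 →ₗ[R] 𝔞 :=
    { toFun := fun b => ⟨f b.1, b.2⟩
      map_add' := fun b c => Subtype.ext (map_add f b.1 c.1)
      map_smul' := fun r b => Subtype.ext ((map_mul f r b.1).trans (Algebra.smul_def r (f b.1)).symm) }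
  have hg : Function.Surjective (g₀.liftBaseChange S) := fun a => by
    obtain ⟨b, hb⟩ := hf a.1
    refine ⟨1 ⊗ₜ ⟨b, show f b ∈ 𝔞 from hb ▸ a.2⟩, ?_⟩
    rw [LinearMap.liftBaseChange_tmul, one_smul]
    exact Subtype.ext hb
  exact ⟨𝔟, inferInstance, ⟨LinearEquiv.ofBijective _ (Module.Invertible.bijective_of_surjective hg) ≪≫ₗ eL.symm⟩⟩

/-- **Surjectivity of the Picard group of a reduced ring of dimension at most one onto that of a reduced quotient.** -/
theorem pic_map_surjective [IsNoetherianRing R] [IsReduced R] [IsReduced S]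
    (hdim : ∀ P : Ideal R, P.IsPrime → P ∈ minimalPrimes R ∨ P.IsMaximal) (f : R →+* S) (hf : Function.Surjective f) :
    Function.Surjective (CommRing.Pic.mapRingHom f) := by
  intro L
  letI : Algebra R S := f.toAlgebra
  haveI : IsNoetherianRing S := isNoetherianRing_of_surjective R S f hf
  obtain ⟨𝔟, hinv, ⟨e⟩⟩ := exists_invertible_lift hdim hf L.AsModule
  refine ⟨CommRing.Pic.mk R 𝔟, ?_⟩
  show CommRing.Pic.mapAlgebra R S (CommRing.Pic.mk R 𝔟) = L
  rw [CommRing.Pic.mapAlgebra_apply, CommRing.Pic.mk_eq_iff]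
  exact ⟨(LinearEquiv.baseChange R S _ _ (CommRing.Pic.mk.linearEquiv R 𝔟)) ≪≫ₗ e⟩

end GrothLib.WeilOrd
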