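import Groth.Agent.Lib.WeilOrd.Order
import Groth.Agent.Lib.WeilOrd.GorCrit

/-!
# Adjoining one rational Weil number
-/

set_option autoImplicit false
set_option linter.all false

universe u v

open MvPolynomial
open GrothLib.TateThm (weilPoly monic_weilPoly aeval_weilPoly)

noncomputable section

namespace GrothLib.WeilOrd

local notation "M₂" => MvPolynomial (Fin 2) ℤ

variable {q : ℤ} {s : ℤ}

/-- Evaluation at `(s, s)`. -/
def evs (s : ℤ) : M₂ →ₐ[ℤ] ℤ := MvPolynomial.aeval ![s, s]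

/-- Setting the second variable to zero. -/
def tauX : M₂ →ₐ[ℤ] Polynomial ℤ := MvPolynomial.aeval ![Polynomial.X, 0]

theorem exists_decompX (c : M₂) : ∃ c' : M₂, c = X 1 * c' + ofX (tauX c) := by
  induction c using MvPolynomial.induction_on with
  | C a => exact ⟨0, by simp [tauX, ofX]⟩
  | add a b ha hb =>
    obtain ⟨a', ha⟩ := ha
    obtain ⟨b', hb⟩ := hb
    refine ⟨a' + b', ?_⟩
    conv_lhs => rw [ha, hb]
    rw [map_add, map_add]; ring
  | mul_X a i ha =>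
    obtain ⟨a', ha⟩ := ha
    fin_cases i
    · refine ⟨a' * X 0, ?_⟩
      conv_lhs => rw [ha]
      simp [tauX, ofX]; ring
    · exact ⟨a, by simp [tauX, mul_comm]⟩

theorem exists_decomp_evs (s : ℤ) (g : M₂) : ∃ a b : M₂, g = (X 0 - C s) * a + (X 1 - C s) * b + C (evs s g) := by
  induction g using MvPolynomial.induction_on with
  | C c => exact ⟨0, 0, by simp [evs]⟩
  | add g g' hg hg' =>
    obtain ⟨a, b, hg⟩ := hg
    obtain ⟨a', b', hg'⟩ := hg'
    refine ⟨a + a', b + b', ?_⟩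
    conv_lhs => rw [hg, hg']
    rw [map_add, map_add]; ring
  | mul_X g i hg =>
    obtain ⟨a, b, hg⟩ := hg
    fin_cases i
    · refine ⟨a * X 0 + C (evs s g), b * X 0, ?_⟩
      conv_lhs => rw [hg]
      simp [evs]; ring
    · refine ⟨a * X 1, b * X 1 + C (evs s g), ?_⟩
      conv_lhs => rw [hg]
      simp [evs]; ring

variable {ι : Type} [Fintype ι] {K : ι → Type u} [∀ i, Field (K i)] [∀ i, CharZero (K i)]

/-- The evaluation with the rational component. -/
def ev' (q s : ℤ) (ϖ : ∀ i, K i) : M₂ →ₐ[ℤ] ((∀ i, K i) × ℚ) :=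
  MvPolynomial.aeval ![(⟨fun i => ϖ i, (s : ℚ)⟩ : (∀ i, K i) × ℚ), ⟨fun i => (q : K i) / ϖ i, (s : ℚ)⟩]

theorem aeval_eq_ev' (p e : ℕ) (s : ℤ) (ϖ : ∀ i, K i) :
    (MvPolynomial.aeval ![(⟨fun i => ϖ i, (s : ℚ)⟩ : (∀ i, K i) × ℚ), ⟨fun i => ((p : K i) ^ e) / ϖ i, (s : ℚ)⟩] :
        MvPolynomial (Fin 2) ℤ →ₐ[ℤ] ((∀ i, K i) × ℚ)) = ev' ((p : ℤ) ^ e) s ϖ := by
  rw [ev']; simp

theorem ev'_apply (q s : ℤ) (ϖ : ∀ i, K i) (g : M₂) : ev' q s ϖ g = (ev q ϖ g, ((evs s g : ℤ) : ℚ)) := by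
  have : ev' q s ϖ = (ev q ϖ).prod ((Algebra.ofId ℤ ℚ).comp (evs s)) := MvPolynomial.algHom_ext fun i => by
    fin_cases i <;> simp [ev', ev, evs] <;> rfl
  rw [this]
  rfl

theorem mem_ker_ev'_iff (q s : ℤ) (ϖ : ∀ i, K i) (g : M₂) :
    g ∈ RingHom.ker (ev' q s ϖ) ↔ ev q ϖ g = 0 ∧ evs s g = 0 := by
  rw [RingHom.mem_ker, ev'_apply, Prod.mk_eq_zero, Int.cast_eq_zero]

variable (hq : q ≠ 0) (hsq : s ^ 2 = q) {ϖ : ∀ i, K i} (hint : ∀ i, IsIntegral ℤ (ϖ i)) (hw : IsWeil q ϖ)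
  (hinj : ∀ i j, minpoly ℤ (ϖ i) = minpoly ℤ (ϖ j) → i = j) (hdeg : ∀ i, (minpoly ℤ (ϖ i)).natDegree ≠ 1)
  {D : ℕ} (hD : ∑ i, (minpoly ℤ (ϖ i)).natDegree = 2 * D)

omit [Fintype ι] in
include hint hdeg in
theorem aeval_int_ne_zero (t : ℤ) (i : ι) : Polynomial.aeval t (minpoly ℤ (ϖ i)) ≠ 0 := fun h => by
  have hdvd : Polynomial.X - Polynomial.C t ∣ minpoly ℤ (ϖ i) := Polynomial.dvd_iff_isRoot.2 h
  have heq := ((minpoly.irreducible (hint i)).dvd_iff.1 hdvd).resolve_left (Polynomial.not_isUnit_X_sub_C t)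
  have := Polynomial.eq_of_monic_of_associated (minpoly.monic (hint i)) (Polynomial.monic_X_sub_C t) heq
  exact hdeg i (by rw [this, Polynomial.natDegree_X_sub_C])

omit [Fintype ι] in
include hsq hint hw hdeg in
theorem im_ne_zero (i : ι) (z : ℂ) (hz : z ∈ (minpoly ℤ (ϖ i)).aroots ℂ) : z.im ≠ 0 := fun him => by
  have h := hw i z hz
  rw [Complex.conj_eq_iff_im.2 him, ← sq, ← hsq, Int.cast_pow, sq_eq_sq_iff_eq_or_eq_neg] at h
  obtain ⟨t, rfl⟩ : ∃ t : ℤ, z = algebraMap ℤ ℂ t := by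
    rcases h with h | h
    · exact ⟨s, by simpa using h⟩
    · exact ⟨-s, by simpa using h⟩
  have h0 := (Polynomial.mem_aroots.1 hz).2
  rw [Polynomial.aeval_algebraMap_apply, map_eq_zero_iff _ (algebraMap ℤ ℂ).injective_int] at h0
  exact aeval_int_ne_zero hint hdeg t i h0

include hq hsq hint hw hinj hdeg hD in
/-- **The kernel with a rational component.** -/
theorem ker_ev' (h : M₂) (hh : X 0 ^ D * h - ofX (weilPoly ϖ) ∈ Ideal.span {fq q}) :
    RingHom.ker (ev' q s ϖ) = Ideal.span {fq q, h * (X 0 - C s), h * (X 1 - C s)} := by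
  have hf : evs s (fq q) = 0 := by simp [evs, fq, ← hsq, sq]
  have hs : evs s h ≠ 0 := fun h0 => by
    obtain ⟨c, hc⟩ := Ideal.mem_span_singleton'.1 hh
    have h1 := congrArg (evs s) hc
    rw [map_mul, hf, mul_zero, map_sub, map_mul, h0, mul_zero, zero_sub, ofX, ← Polynomial.aeval_algHom_apply,
      eq_comm, neg_eq_zero, show evs s (X 0) = s by simp [evs], weilPoly, map_prod, Finset.prod_eq_zero_iff] at h1
    obtain ⟨i, -, hi⟩ := h1
    exact aeval_int_ne_zero hint hdeg s i hi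
  refine le_antisymm (fun g hg => ?_) (Ideal.span_le.2 ?_)
  · obtain ⟨hg1, hg2⟩ := (mem_ker_ev'_iff q s ϖ g).1 hg
    have hg3 : g ∈ RingHom.ker (ev q ϖ) := hg1
    rw [ker_ev hq hint hw hinj hD h hh] at hg3
    obtain ⟨a, b, rfl⟩ := Ideal.mem_span_pair.1 hg3
    rw [map_add, map_mul, map_mul, hf, mul_zero, zero_add] at hg2
    obtain ⟨a', b', hb⟩ := exists_decomp_evs s b
    rw [(mul_eq_zero.1 hg2).resolve_right hs, map_zero, add_zero] at hb
    exact Ideal.mem_span_insert.2 ⟨a, _, Ideal.mem_span_pair.2 ⟨a', b', rfl⟩, by rw [hb]; ring⟩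
  · rintro x (rfl | rfl | rfl)
    · exact (mem_ker_ev'_iff q s ϖ _).2 ⟨ev_fq hq hint hw, hf⟩
    · exact (mem_ker_ev'_iff q s ϖ _).2 ⟨by rw [map_mul, ev_h hq hint hw h hh, zero_mul], by simp [evs]⟩
    · exact (mem_ker_ev'_iff q s ϖ _).2 ⟨by rw [map_mul, ev_h hq hint hw h hh, zero_mul], by simp [evs]⟩

include hq hint hw in
theorem ringKrullDim_range' : ringKrullDim (ev' q s ϖ).range ≤ 1 := by
  have hkill : ∀ j : Fin 2, IsIntegral ℤ (ev' q s ϖ (X j)) := fun j => by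
    refine ⟨weilPoly ϖ * (Polynomial.X - Polynomial.C s), (monic_weilPoly ϖ hint).mul (Polynomial.monic_X_sub_C s), ?_⟩
    show Polynomial.aeval (ev' q s ϖ (X j)) _ = 0
    have hy : Polynomial.aeval (ev q ϖ (X j)) (weilPoly ϖ) = 0 := by
      funext i
      show Pi.evalAlgHom ℤ K i (Polynomial.aeval (ev q ϖ (X j)) (weilPoly ϖ)) = 0
      rw [← Polynomial.aeval_algHom_apply, weilPoly, map_prod]
      refine Finset.prod_eq_zero (Finset.mem_univ i) ?_
      fin_cases j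
      · simpa [ev] using minpoly.aeval ℤ (ϖ i)
      · simpa [ev] using aeval_div_eq_zero (minpoly.monic (hint i)) hq (hw i) (ne_zero hq hint hw i) (minpoly.aeval ℤ (ϖ i))
    rw [map_mul, ev'_apply]
    refine Prod.ext ?_ ?_
    · rw [Prod.fst_mul]
      refine mul_eq_zero_of_left ?_ _
      exact (Polynomial.aeval_algHom_apply (AlgHom.fst ℤ (∀ i, K i) ℚ) _ _).symm.trans hy
    · rw [Prod.snd_mul]
      refine mul_eq_zero_of_right _ ?_
      refine (Polynomial.aeval_algHom_apply (AlgHom.snd ℤ (∀ i, K i) ℚ) _ _).symm.trans ?_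
      fin_cases j <;> simp [evs]
  have hint' : ∀ g, IsIntegral ℤ (ev' q s ϖ g) := fun g => by
    induction g using MvPolynomial.induction_on with
    | C a => rw [← algebraMap_eq, AlgHom.commutes]; exact isIntegral_algebraMap
    | add a b ha hb => rw [map_add]; exact ha.add hb
    | mul_X a j ha => rw [map_mul]; exact ha.mul (hkill j)
  haveI : Algebra.IsIntegral ℤ (ev' q s ϖ).range := ⟨fun ⟨x, g, hg⟩ => (isIntegral_algHom_iff (ev' q s ϖ).range.val
    Subtype.val_injective).1 (hg ▸ hint' g)⟩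
  refine (GrothLib.Dim.ringKrullDim_le_of_isIntegral ℤ _).trans ?_
  rw [IsPrincipalIdealRing.ringKrullDim_eq_one _ Int.not_isField]

/-- Socle elements coming from one branch. -/
theorem exists_socle {R : Type v} [CommRing R] (π : M₂ →+* R) (p : ℕ) [Fact p.Prime] (hps : (p : ℤ) ∣ s) (hpq : (p : ℤ) ∣ q)
    (Z W : M₂) (hZW : Z * W = X 0 * X 1) (θ : M₂ →ₐ[ℤ] Polynomial ℤ)
    (hdec : ∀ g, ∃ g', g = W * g' + Polynomial.aeval Z (θ g)) (h : M₂) (hf : π (fq q) = 0) (hh : π (h * (Z - C s)) = 0)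
    (hG : (θ h).map (Int.castRingHom (ZMod p)) ≠ 0) (hG0 : ((θ h).map (Int.castRingHom (ZMod p))).coeff 0 = 0) :
    ∃ (r : ℕ) (G₂ : Polynomial ℤ), 1 ≤ r ∧ Polynomial.X ^ r ∣ (θ h).map (Int.castRingHom (ZMod p)) ∧
      ¬ (p : ℤ) ∣ G₂.coeff 0 ∧ π (Z * W) ∈ Ideal.span {(p : R)} ∧
      π (Polynomial.aeval Z G₂) * π (Z ^ (r + 1)) ∈ Ideal.span {(p : R)} := by
  obtain ⟨g₂, hg₂, hnd⟩ := Polynomial.exists_eq_pow_rootMultiplicity_mul_and_not_dvd _ hG (0 : ZMod p)
  rw [Polynomial.C_0, sub_zero] at hg₂ hnd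
  set r := Polynomial.rootMultiplicity 0 ((θ h).map (Int.castRingHom (ZMod p)))
  have hg0 : g₂.coeff 0 ≠ 0 := fun h0 => hnd (Polynomial.X_dvd_iff.2 h0)
  have hr : 1 ≤ r := Nat.one_le_iff_ne_zero.2 fun hr0 => hg0 (by rwa [hg₂, hr0, pow_zero, one_mul] at hG0)
  obtain ⟨G₂, rfl⟩ := Polynomial.map_surjective (Int.castRingHom (ZMod p)) ZMod.intCast_surjective g₂
  have hdvd : Polynomial.C (p : ℤ) ∣ θ h - Polynomial.X ^ r * G₂ := by
    refine (Polynomial.C_dvd_iff_dvd_coeff _ _).2 fun k => ?_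
    have h1 := congrArg (fun P => P.coeff k) hg₂
    rw [← Polynomial.map_X (Int.castRingHom (ZMod p)), ← Polynomial.map_pow, ← Polynomial.map_mul] at h1
    simp only [Polynomial.coeff_map, eq_intCast] at h1
    rw [Polynomial.coeff_sub]
    exact (ZMod.intCast_eq_intCast_iff_dvd_sub _ _ p).1 h1.symm
  obtain ⟨E, hE⟩ := hdvd
  obtain ⟨q', hq'⟩ := hpq
  obtain ⟨s', hs'⟩ := hps
  obtain ⟨h', hh'⟩ := hdec h
  have hZW' : π (Z * W) = (p : R) * π (C q') := by
    rw [fq, map_sub, sub_eq_zero, ← hZW, hq', C_mul, map_mul π (C (p : ℤ))] at hf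
    rw [hf]; simp
  refine ⟨r, G₂, hr, Dvd.intro _ hg₂.symm, fun hp => hg0 ?_, ?_, ?_⟩
  · rw [Polynomial.coeff_map, eq_intCast, (ZMod.intCast_zmod_eq_zero_iff_dvd _ p).2 hp]
  · exact Ideal.mem_span_singleton'.2 ⟨π (C q'), by rw [hZW', mul_comm]⟩
  · have e1 : Polynomial.aeval Z G₂ * Z ^ (r + 1) = h * (Z - C s) + C s * h - (Z * W) * h' -
        Z * C (p : ℤ) * Polynomial.aeval Z E := by
      have h2 := congrArg (Polynomial.aeval Z) hE
      rw [map_sub, map_mul, map_pow, Polynomial.aeval_X, map_mul, Polynomial.aeval_C, MvPolynomial.algebraMap_eq] at h2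
      linear_combination (-Z) * hh' - Z * h2
    rw [← map_mul, e1, map_sub, map_sub, map_add, hh, zero_add, hs', C_mul, map_mul π (Z * W), hZW']
    simp only [map_mul, map_natCast]
    exact Ideal.mem_span_singleton'.2
      ⟨π (C s') * π h - π (C q') * π h' - π Z * π (Polynomial.aeval Z E), by ring⟩

theorem isUnit_mk_of_coeff {F : Type v} [Field F] (n : ℕ) {P : Polynomial F} (hP : P.coeff 0 ≠ 0) :
    IsUnit (Ideal.Quotient.mk (Ideal.span {(Polynomial.X : Polynomial F) ^ n}) P) := by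
  have h : IsCoprime (Polynomial.X ^ n) P :=
    ((Polynomial.irreducible_X.coprime_iff_not_dvd).2 fun hd => hP (Polynomial.X_dvd_iff.1 hd)).pow_left
  obtain ⟨a, b, hab⟩ := h
  refine IsUnit.of_mul_eq_one (Ideal.Quotient.mk _ b) ?_
  rw [← map_mul, ← map_one (Ideal.Quotient.mk (Ideal.span {(Polynomial.X : Polynomial F) ^ n})), Ideal.Quotient.mk_eq_mk_iff_sub_mem]
  exact Ideal.mem_span_singleton'.2 ⟨-a, by linear_combination -hab⟩

theorem eval00_hcan (ε : ℤ) (D : ℕ) (P : Polynomial ℤ) :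
    MvPolynomial.aeval ![(0 : ℤ), 0] (hcan ε D P) = P.coeff D := by
  simp [hcan, Finset.sum_range_succ' _ D]

theorem coeff_tauX_hcan (ε : ℤ) {D : ℕ} (hD : 1 ≤ D) {P : Polynomial ℤ} :
    (tauX (hcan ε D P)).coeff D = P.coeff (D + D) := by
  have h2 : tauX (∑ r ∈ Finset.range D, C (ε * P.coeff (D + (r + 1))) * X 1 ^ (r + 1)) = 0 := by simp [tauX]
  rw [hcan, map_add, h2, add_zero, map_sum, Polynomial.finset_sum_coeff, Finset.sum_eq_single D]
  · simp [tauX]
  · intro b _ hb; simp [tauX, Polynomial.coeff_X_pow, Ne.symm hb]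
  · intro hn; exact absurd (Finset.mem_range.2 (Nat.lt_succ_self D)) hn

include hq hsq hint hw hinj hdeg hD in
/-- **The Gorenstein property fails at a middle coefficient divisible by `p`.** -/
theorem not_isGorensteinRing_range' {p : ℕ} [Fact p.Prime] (hps : (p : ℤ) ∣ s)
    (hmid : (p : ℤ) ∣ (weilPoly ϖ).coeff D) : ¬ LocCoh.IsGorensteinRing (ev' q s ϖ).range := by
  classical
  have hm := monic_weilPoly ϖ hint
  have hdegP := (natDegree_weilPoly hint).trans hD
  obtain ⟨ε, hε, hsym⟩ := exists_isSymm hm hq (fun z hz => weil_roots hint hw hz) hdegP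
  have hpq : (p : ℤ) ∣ q := hsq ▸ hps.trans (dvd_pow_self s two_ne_zero)
  have hD1 : 1 ≤ D := Nat.one_le_iff_ne_zero.2 fun h0 => by
    subst h0
    rw [Polynomial.eq_one_of_monic_natDegree_zero hm hdegP, Polynomial.coeff_one_zero] at hmid
    exact (Nat.prime_iff_prime_int.1 (Fact.out : p.Prime)).not_dvd_one hmid
  set h := hcan ε D (weilPoly ϖ) with hhdef
  have hker := ker_ev' hq hsq hint hw hinj hdeg hD h (hcan_spec hq hdegP.le hsym)
  let A := (ev' q s ϖ).range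
  let π : M₂ →+* A := (ev' q s ϖ).rangeRestrict.toRingHom
  have hπ : Function.Surjective π := AlgHom.rangeRestrict_surjective _
  have hπker : RingHom.ker π = RingHom.ker (ev' q s ϖ) := by
    ext x; exact ⟨fun hx => congrArg Subtype.val hx, fun hx => Subtype.ext hx⟩
  have hgen : ∀ x ∈ ({fq q, h * (X 0 - C s), h * (X 1 - C s)} : Set M₂), π x = 0 := fun x hx => by
    rw [← RingHom.mem_ker, hπker, hker]; exact Ideal.subset_span hx
  -- the two branches
  let c : ℤ →+* ZMod p := Int.castRingHom (ZMod p)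
  have hZ : (q : ZMod p) = 0 := (ZMod.intCast_zmod_eq_zero_iff_dvd q p).2 hpq
  have hS : (s : ZMod p) = 0 := (ZMod.intCast_zmod_eq_zero_iff_dvd s p).2 hps
  have htop : c ((weilPoly ϖ).coeff (D + D)) = 1 := by
    rw [show D + D = (weilPoly ϖ).natDegree by omega, hm.coeff_natDegree, map_one]
  have h00 : ∀ (θ : M₂ →ₐ[ℤ] Polynomial ℤ), (Polynomial.aeval (0 : ℤ)).comp θ = MvPolynomial.aeval ![(0 : ℤ), 0] →
      ((θ h).map c).coeff 0 = 0 := fun θ hθ => by
    rw [Polynomial.coeff_map, Polynomial.coeff_zero_eq_aeval_zero, ← AlgHom.comp_apply, hθ, hhdef, eval00_hcan]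
    exact (ZMod.intCast_zmod_eq_zero_iff_dvd _ p).2 hmid
  have hθX : (Polynomial.aeval (0 : ℤ)).comp tauX = MvPolynomial.aeval ![(0 : ℤ), 0] :=
    MvPolynomial.algHom_ext fun i => by fin_cases i <;> simp [tauX]
  have hθY : (Polynomial.aeval (0 : ℤ)).comp tau = MvPolynomial.aeval ![(0 : ℤ), 0] :=
    MvPolynomial.algHom_ext fun i => by fin_cases i <;> simp [tau]
  have hGX : (tauX h).map c ≠ 0 := fun h0 => by
    have h1 := congrArg (fun P => P.coeff D) h0
    simp only [Polynomial.coeff_map, Polynomial.coeff_zero, hhdef, coeff_tauX_hcan ε hD1] at h1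
    exact one_ne_zero (htop.symm.trans h1)
  have hGY : (tau h).map c ≠ 0 := fun h0 => by
    have h1 := congrArg (fun P => P.coeff D) h0
    simp only [Polynomial.coeff_map, Polynomial.coeff_zero, hhdef, tau_hcan, Polynomial.coeff_add,
      Polynomial.finset_sum_coeff, Polynomial.coeff_C_mul, Polynomial.coeff_X_pow, Polynomial.coeff_C] at h1
    rw [if_neg (by omega), zero_add, Finset.sum_eq_single (D - 1) (fun r hr hne => by rw [if_neg (by omega), mul_zero])
      (fun hn => absurd (Finset.mem_range.2 (by omega)) hn), if_pos (by omega), mul_one,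
      show D + (D - 1 + 1) = D + D by omega, map_mul, htop, mul_one] at h1
    exact one_ne_zero (((map_one c).symm.trans (congrArg c hε.symm)).trans (by rw [map_mul, h1, zero_mul]))
  obtain ⟨r, G, hr, hrdvd, hG0, hXY, hGu⟩ := exists_socle π p hps hpq (X 0) (X 1) rfl tauX exists_decompX h
    (hgen _ (by simp)) (hgen _ (by simp)) hGX (h00 _ hθX)
  obtain ⟨r', G', hr', hrdvd', hG0', hYX, hGv⟩ := exists_socle π p hps hpq (X 1) (X 0) (mul_comm _ _) tau exists_decomp h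
    (hgen _ (by simp)) (hgen _ (by simp)) hGY (h00 _ hθY)
  let S := fun n : ℕ => Polynomial (ZMod p) ⧸ Ideal.span {(Polynomial.X : Polynomial (ZMod p)) ^ (n + 1)}
  let θ₁ : M₂ →+* Polynomial (ZMod p) := (Polynomial.mapRingHom c).comp tauX.toRingHom
  let θ₂ : M₂ →+* Polynomial (ZMod p) := (Polynomial.mapRingHom c).comp tau.toRingHom
  let ρ₀ : M₂ →+* ZMod p := c.comp (MvPolynomial.aeval ![(0 : ℤ), 0]).toRingHom
  have hρ : ∀ (θ : M₂ →ₐ[ℤ] Polynomial ℤ), (Polynomial.aeval (0 : ℤ)).comp θ = MvPolynomial.aeval ![(0 : ℤ), 0] →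
      ∀ g, ((θ g).map c).coeff 0 = ρ₀ g := fun θ hθ g => by
    rw [Polynomial.coeff_map, Polynomial.coeff_zero_eq_aeval_zero, ← AlgHom.comp_apply, hθ]
    rfl
  have hZ' : (q : Polynomial (ZMod p)) = 0 := by rw [← map_intCast (Polynomial.C : ZMod p →+* _), hZ, map_zero]
  have hS' : (s : Polynomial (ZMod p)) = 0 := by rw [← map_intCast (Polynomial.C : ZMod p →+* _), hS, map_zero]
  have hq₁ : θ₁ (fq q) = 0 := by simp [θ₁, c, tauX, fq, hZ, hZ']
  have hq₂ : θ₂ (fq q) = 0 := by simp [θ₂, c, tau, fq, hZ, hZ']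
  have hlin₁ : θ₁ (X 0 - C s) = Polynomial.X ∧ θ₁ (X 1 - C s) = 0 := by
    constructor <;> simp [θ₁, c, tauX, hS, hS']
  have hlin₂ : θ₂ (X 0 - C s) = 0 ∧ θ₂ (X 1 - C s) = Polynomial.X := by
    constructor <;> simp [θ₂, c, tau, hS, hS']
  have hχ₁ : RingHom.ker π ≤ RingHom.ker ((Ideal.Quotient.mk (Ideal.span {(Polynomial.X : Polynomial (ZMod p)) ^ (r + 1)})).comp θ₁) := by
    rw [hπker, hker, Ideal.span_le]
    rintro x (rfl | rfl | rfl) <;> rw [SetLike.mem_coe, RingHom.mem_ker, RingHom.comp_apply, Ideal.Quotient.eq_zero_iff_dvd]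
    · rw [hq₁]; exact dvd_zero _
    · rw [map_mul, hlin₁.1, pow_succ]; exact mul_dvd_mul hrdvd dvd_rfl
    · rw [map_mul, hlin₁.2, mul_zero]; exact dvd_zero _
  have hχ₂ : RingHom.ker π ≤ RingHom.ker ((Ideal.Quotient.mk (Ideal.span {(Polynomial.X : Polynomial (ZMod p)) ^ (r' + 1)})).comp θ₂) := by
    rw [hπker, hker, Ideal.span_le]
    rintro x (rfl | rfl | rfl) <;> rw [SetLike.mem_coe, RingHom.mem_ker, RingHom.comp_apply, Ideal.Quotient.eq_zero_iff_dvd]
    · rw [hq₂]; exact dvd_zero _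
    · rw [map_mul, hlin₂.1, mul_zero]; exact dvd_zero _
    · rw [map_mul, hlin₂.2, pow_succ]; exact mul_dvd_mul hrdvd' dvd_rfl
  let χ₁ : A →+* S r := π.liftOfSurjective hπ ⟨_, hχ₁⟩
  let χ₂ : A →+* S r' := π.liftOfSurjective hπ ⟨_, hχ₂⟩
  have hχ₁' : ∀ g, χ₁ (π g) = Ideal.Quotient.mk _ (θ₁ g) := fun g => π.liftOfRightInverse_comp_apply _ _ ⟨_, hχ₁⟩ g
  have hχ₂' : ∀ g, χ₂ (π g) = Ideal.Quotient.mk _ (θ₂ g) := fun g => π.liftOfRightInverse_comp_apply _ _ ⟨_, hχ₂⟩ g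
  have hρker : RingHom.ker π ≤ RingHom.ker ρ₀ := fun g hg => by
    have h1 : Ideal.Quotient.mk _ (θ₁ g) = (0 : S r) := RingHom.mem_ker.1 (hχ₁ hg)
    rw [Ideal.Quotient.eq_zero_iff_dvd, Polynomial.X_pow_dvd_iff] at h1
    rw [RingHom.mem_ker, ← hρ _ hθX g]
    exact h1 0 (Nat.succ_pos _)
  let 𝔮 : Ideal A := RingHom.ker (π.liftOfSurjective hπ ⟨ρ₀, hρker⟩)
  haveI : 𝔮.IsPrime := RingHom.ker_isPrime _
  have hmemq : ∀ g, π g ∈ 𝔮 ↔ ρ₀ g = 0 := fun g => by
    rw [RingHom.mem_ker, π.liftOfRightInverse_comp_apply _ _ ⟨ρ₀, hρker⟩ g]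
  have hsoc : ∀ (Z W : M₂) (n : ℕ) (G : Polynomial ℤ), 1 ≤ n → ((Z = X 0 ∧ W = X 1) ∨ (Z = X 1 ∧ W = X 0)) →
      ¬ (p : ℤ) ∣ G.coeff 0 → π (Z * W) ∈ Ideal.span {(p : A)} →
      π (Polynomial.aeval Z G) * π (Z ^ (n + 1)) ∈ Ideal.span {(p : A)} →
      ∀ x ∈ 𝔮, ∃ w ∉ 𝔮, w * (x * π (Z ^ n)) ∈ Ideal.span {(p : A)} := by
    intro Z W n G hn hZW hG hprod hGZ x hx
    obtain ⟨g, rfl⟩ := hπ x
    refine ⟨π (Polynomial.aeval Z G), fun hmem => hG ?_, ?_⟩
    · have h2 := (hmemq _).1 hmem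
      rw [show ρ₀ (Polynomial.aeval Z G) = c ((MvPolynomial.aeval ![(0 : ℤ), 0]) (Polynomial.aeval Z G)) from rfl,
        ← Polynomial.aeval_algHom_apply,
        show MvPolynomial.aeval ![(0 : ℤ), 0] Z = 0 by rcases hZW with ⟨rfl, -⟩ | ⟨rfl, -⟩ <;> simp,
        ← Polynomial.coeff_zero_eq_aeval_zero] at h2
      exact (ZMod.intCast_zmod_eq_zero_iff_dvd _ p).1 h2
    · obtain ⟨a, b, hab⟩ : ∃ a b : M₂, g = Z * a + W * b + C (evs 0 g) := by
        obtain ⟨a, b, hg⟩ := exists_decomp_evs 0 g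
        rw [C_0, sub_zero, sub_zero] at hg
        rcases hZW with ⟨rfl, rfl⟩ | ⟨rfl, rfl⟩
        · exact ⟨a, b, hg⟩
        · exact ⟨b, a, by rw [add_comm (X 1 * b)]; exact hg⟩
      obtain ⟨d, hd⟩ : (p : ℤ) ∣ evs 0 g := (ZMod.intCast_zmod_eq_zero_iff_dvd _ p).1 ((hmemq g).1 hx)
      obtain ⟨t, rfl⟩ : ∃ t, n = t + 1 := ⟨n - 1, by omega⟩
      rw [hab, hd, C_mul, show C ((p : ℤ)) = (p : M₂) from map_natCast _ _]
      rw [show π (Polynomial.aeval Z G) * (π (Z * a + W * b + (p : M₂) * C d) * π (Z ^ (t + 1))) =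
        π (Polynomial.aeval Z G) * π (Z ^ (t + 1 + 1)) * π a + π (Z * W) * (π (Polynomial.aeval Z G) * π b * π (Z ^ t)) +
          (p : A) * (π (Polynomial.aeval Z G) * π (C d) * π (Z ^ (t + 1))) by
        simp only [map_add, map_mul, map_pow, map_natCast]; ring]
      exact add_mem (add_mem (Ideal.mul_mem_right _ _ hGZ) (Ideal.mul_mem_right _ _ hprod))
        (Ideal.mul_mem_right _ _ (Ideal.mem_span_singleton_self _))
  refine not_isGorensteinRing_of_socle (ringKrullDim_range' hq hint hw) 𝔮 (a := (p : A)) ?_ ?_ (π (X 0 ^ r)) (π (X 1 ^ r'))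
    (hsoc _ _ r G hr (Or.inl ⟨rfl, rfl⟩) hG0 hXY hGu) (hsoc _ _ r' G' hr' (Or.inr ⟨rfl, rfl⟩) hG0' hYX hGv)
    χ₁ ?_ ?_ ?_ ?_ χ₂ ?_ ?_ ?_
  · rw [RingHom.mem_ker, map_natCast, ZMod.natCast_self]
  · intro x y hxy
    have h1 := congrArg Subtype.val hxy
    simp only [smul_eq_mul, MulMemClass.coe_mul, SubringClass.coe_natCast] at h1
    refine Subtype.ext (Prod.ext (funext fun i => ?_) ?_)
    · exact mul_left_cancel₀ (Nat.cast_ne_zero.2 (Fact.out : p.Prime).ne_zero) (congrFun (congrArg Prod.fst h1) i)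
    · exact mul_left_cancel₀ (Nat.cast_ne_zero.2 (Fact.out : p.Prime).ne_zero) (congrArg Prod.snd h1)
  · intro z hz
    obtain ⟨g, rfl⟩ := hπ z
    rw [hχ₁']
    exact isUnit_mk_of_coeff _ (fun h0 => hz ((hmemq g).2 ((hρ _ hθX g).symm.trans h0)))
  · rw [map_natCast, ← map_natCast (Ideal.Quotient.mk _) p, ← map_natCast (Polynomial.C : ZMod p →+* _) p, ZMod.natCast_self, map_zero, map_zero]
  · rw [hχ₁', Ne, Ideal.Quotient.eq_zero_iff_dvd]
    rw [Polynomial.X_pow_dvd_iff]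
    intro H
    have h1 := H r (Nat.lt_succ_self r)
    simp [θ₁, c, tauX] at h1
  · rw [hχ₁']
    simp [θ₁, tauX, zero_pow (show r' ≠ 0 by omega)]
  · intro z hz
    obtain ⟨g, rfl⟩ := hπ z
    rw [hχ₂']
    exact isUnit_mk_of_coeff _ (fun h0 => hz ((hmemq g).2 ((hρ _ hθY g).symm.trans h0)))
  · rw [map_natCast, ← map_natCast (Ideal.Quotient.mk _) p, ← map_natCast (Polynomial.C : ZMod p →+* _) p, ZMod.natCast_self, map_zero, map_zero]
  · rw [hχ₂', Ne, Ideal.Quotient.eq_zero_iff_dvd]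
    rw [Polynomial.X_pow_dvd_iff]
    intro H
    have h1 := H r' (Nat.lt_succ_self r')
    simp [θ₂, c, tau] at h1

theorem isWeaklyRegular_of_psi_ne_zero {q : ℤ} (hq : q ≠ 0) {b : M₂} (hb : psi q b ≠ 0) :
    RingTheory.Sequence.IsWeaklyRegular M₂ [fq q, b] := by
  refine (RingTheory.Sequence.isWeaklyRegular_cons_iff _ _ _).2 ⟨fun x y hxy => mul_left_cancel₀ fq_ne_zero hxy,
    (RingTheory.Sequence.isWeaklyRegular_singleton_iff _ _).2 fun y z hyz => sub_eq_zero.1 ?_⟩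
  have hx : b • (y - z) = 0 := by rw [smul_sub, sub_eq_zero]; exact hyz
  generalize y - z = x at hx ⊢
  obtain ⟨u, rfl⟩ := Submodule.Quotient.mk_surjective _ x
  rw [← Submodule.Quotient.mk_smul, Submodule.Quotient.mk_eq_zero, Submodule.mem_smul_pointwise_iff_exists] at hx
  obtain ⟨c, -, hc⟩ := hx
  rw [Submodule.Quotient.mk_eq_zero, Submodule.mem_smul_pointwise_iff_exists]
  have h1 : psi q b * psi q u = 0 := by
    have := congrArg (psi q) hc
    simpa [psi_fq] using this.symm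
  obtain ⟨d, hd⟩ := Ideal.mem_span_singleton'.1 ((mem_span_fq_iff hq u).2 ((mul_eq_zero.1 h1).resolve_left hb))
  exact ⟨d, trivial, by rw [smul_eq_mul, mul_comm, hd]⟩

theorem psi_ne_zero {q : ℤ} (hq : q ≠ 0) {D : ℕ} {P : Polynomial ℤ} (hP : P ≠ 0) {h : M₂}
    (hh : X 0 ^ D * h - ofX P ∈ Ideal.span {fq q}) : psi q h ≠ 0 := fun h0 => hP (by
  have h2 := (mem_span_fq_iff hq _).1 hh
  rw [map_sub, map_mul, h0, mul_zero, zero_sub, neg_eq_zero, psi_ofX] at h2
  exact Polynomial.map_injective _ (RingHom.injective_int (Int.castRingHom ℚ))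
    (RatFunc.algebraMap_injective ℚ (by rw [h2, Polynomial.map_zero, map_zero])))

theorem isWeaklyRegular_lines (s : ℤ) : RingTheory.Sequence.IsWeaklyRegular M₂ [(X 0 - C s : M₂), (X 1 - C s : M₂)] := by
  have hne : (X 0 - C s : M₂) ≠ 0 := fun h => by
    simpa using congrArg (MvPolynomial.aeval ![s + 1, (0 : ℤ)]) h
  refine (RingTheory.Sequence.isWeaklyRegular_cons_iff _ _ _).2 ⟨fun a b hab => mul_left_cancel₀ hne hab,
    (RingTheory.Sequence.isWeaklyRegular_singleton_iff _ _).2 fun y z hyz => sub_eq_zero.1 ?_⟩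
  have hx : (X 1 - C s : M₂) • (y - z) = 0 := by rw [smul_sub, sub_eq_zero]; exact hyz
  generalize y - z = x at hx ⊢
  obtain ⟨u, rfl⟩ := Submodule.Quotient.mk_surjective _ x
  rw [← Submodule.Quotient.mk_smul, Submodule.Quotient.mk_eq_zero, Submodule.mem_smul_pointwise_iff_exists] at hx
  obtain ⟨c, -, hc⟩ := hx
  rw [Submodule.Quotient.mk_eq_zero, Submodule.mem_smul_pointwise_iff_exists]
  let φ : M₂ →ₐ[ℤ] Polynomial ℤ := MvPolynomial.aeval ![Polynomial.C s, Polynomial.X]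
  have hdec : ∀ g : M₂, ∃ g', g = (X 0 - C s) * g' + ofY (φ g) := fun g => by
    induction g using MvPolynomial.induction_on with
    | C a => exact ⟨0, by simp [φ, ofY]⟩
    | add a b ha hb =>
      obtain ⟨a', ha⟩ := ha
      obtain ⟨b', hb⟩ := hb
      refine ⟨a' + b', ?_⟩
      conv_lhs => rw [ha, hb]
      rw [map_add, map_add]; ring
    | mul_X a i ha =>
      obtain ⟨a', ha⟩ := ha
      fin_cases i
      · refine ⟨a' * X 0 + ofY (φ a), ?_⟩
        conv_lhs => rw [ha]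
        simp [φ, ofY]; ring
      · refine ⟨a' * X 1, ?_⟩
        conv_lhs => rw [ha]
        simp [φ, ofY]; ring
  have h0 : φ u = 0 := by
    have h1 := congrArg φ hc
    simp [φ, Polynomial.X_sub_C_ne_zero] at h1
    exact h1.resolve_left (by
      rw [← map_intCast (Polynomial.C : ℤ →+* Polynomial ℤ)]; exact Polynomial.X_sub_C_ne_zero _)
  obtain ⟨g', hg⟩ := hdec u
  rw [h0, map_zero, add_zero] at hg
  exact ⟨g', trivial, by rw [smul_eq_mul, ← hg]⟩

include hq hsq hint hw hinj hdeg hD in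
/-- **The order is Gorenstein when the middle coefficient is prime to `p`.** -/
theorem isGorensteinRing_range' {p e : ℕ} [Fact p.Prime] (hqp : q = (p : ℤ) ^ e)
    (hmid : ¬ (p : ℤ) ∣ (weilPoly ϖ).coeff D) : LocCoh.IsGorensteinRing (ev' q s ϖ).range := by
  have hm := monic_weilPoly ϖ hint
  have hdegP := (natDegree_weilPoly hint).trans hD
  obtain ⟨ε, hε, hsym⟩ := exists_isSymm hm hq (fun z hz => weil_roots hint hw hz) hdegP
  set h := hcan ε D (weilPoly ϖ) with hhdef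
  have hhh := hcan_spec hq hdegP.le hsym
  rw [← hhdef] at hhh
  have hker := ker_ev' hq hsq hint hw hinj hdeg hD h hhh
  let A := ULift.{u} M₂
  let E : A ≃+* M₂ := ULift.ringEquiv
  haveI : IsRegularRing A := IsRegularRing.of_ringEquiv E.symm
  haveI := GorFlat.isGorensteinRing_of_isRegularRing A
  let φ : A →+* (ev' q s ϖ).range := (ev' q s ϖ).rangeRestrict.toRingHom.comp E.toRingHom
  refine isGorensteinRing_of_surjective_locally φ ((AlgHom.rangeRestrict_surjective _).comp E.surjective) fun Q _ hQ => ?_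
  let L := Localization.AtPrime Q
  let ψ : M₂ →+* L := (algebraMap A L).comp E.symm.toRingHom
  have hkerA : RingHom.ker φ = (Ideal.span {fq q, h * (X 0 - C s), h * (X 1 - C s)}).map (E.symm : M₂ →+* A) := by
    rw [← hker]
    ext x
    constructor
    · intro hx
      exact (E.symm_apply_apply x) ▸ Ideal.mem_map_of_mem (E.symm : M₂ →+* A)
        (show E x ∈ RingHom.ker (ev' q s ϖ) from congrArg Subtype.val hx)
    · intro hx
      obtain ⟨y, hy, rfl⟩ := (Ideal.mem_map_iff_of_surjective _ E.symm.surjective).1 hx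
      show (ev' q s ϖ).rangeRestrict (E (E.symm y)) = 0
      rw [E.apply_symm_apply]
      exact Subtype.ext hy
  let Q' : Ideal M₂ := Q.comap (E.symm : M₂ →+* A)
  haveI : Q'.IsPrime := Ideal.IsPrime.comap _
  have hK : ∀ x ∈ ({fq q, h * (X 0 - C s), h * (X 1 - C s)} : Set M₂), x ∈ Q' := fun x hx =>
    hQ (by rw [hkerA]; exact Ideal.mem_map_of_mem _ (Ideal.subset_span hx))
  have hunit : ∀ x, x ∉ Q' → IsUnit (ψ x) := fun x hx =>
    IsLocalization.map_units (M := Q.primeCompl) L ⟨E.symm x, hx⟩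
  suffices ∃ a b : M₂, RingTheory.Sequence.IsWeaklyRegular M₂ [a, b] ∧ a ∈ Q' ∧ b ∈ Q' ∧
      (Ideal.span {fq q, h * (X 0 - C s), h * (X 1 - C s)}).map ψ = (Ideal.span {a, b}).map ψ by
    obtain ⟨a, b, hreg, ha, hb, heq⟩ := this
    refine ⟨[E.symm a, E.symm b], (AddEquiv.isWeaklyRegular_congr (e := E.symm.toAddEquiv) (as := [a, b]) ?_).1 hreg, ?_, ?_⟩
    · refine List.Forall₂.cons (fun x => ?_) (List.Forall₂.cons (fun x => ?_) List.Forall₂.nil) <;>
        exact map_mul E.symm _ x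
    · intro r hr
      simp only [List.mem_cons, List.not_mem_nil, or_false] at hr
      rcases hr with rfl | rfl
      · exact ha
      · exact hb
    · rw [hkerA, Ideal.map_map]
      refine heq.trans ?_
      simp [Ideal.map_span, Set.image_pair, Ideal.ofList_cons, ← Ideal.span_insert, ψ]
      rfl
  have hle : ∀ {l : List M₂} {I : Ideal L}, (∀ x ∈ l, ψ x ∈ I) → (Ideal.span {x | x ∈ l}).map ψ ≤ I := fun {l I} hl => by
    rw [Ideal.map_span, Ideal.span_le]
    rintro _ ⟨x, hx, rfl⟩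
    exact hl x hx
  have hset3 : ({fq q, h * (X 0 - C s), h * (X 1 - C s)} : Set M₂) = {x | x ∈ [fq q, h * (X 0 - C s), h * (X 1 - C s)]} := by
    ext x; simp
  have hset2 : ∀ a b : M₂, ({a, b} : Set M₂) = {x | x ∈ [a, b]} := fun a b => by ext x; simp
  have hmem : ∀ {S : Set M₂} {x}, x ∈ S → ψ x ∈ (Ideal.span S).map ψ := fun hx =>
    Ideal.mem_map_of_mem _ (Ideal.subset_span hx)
  have hmem' : ∀ {S : Set M₂} {u x : M₂}, IsUnit (ψ u) → u * x ∈ Ideal.span S → ψ x ∈ (Ideal.span S).map ψ := fun hu hx => by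
    rw [← hu.unit.inv_mul_cancel_left (ψ _)]
    refine Ideal.mul_mem_left _ _ ?_
    rw [IsUnit.unit_spec, ← map_mul]
    exact Ideal.mem_map_of_mem _ hx
  by_cases hh' : h ∈ Q'
  · by_cases hl : (X 0 - C s : M₂) ∈ Q' ∧ (X 1 - C s : M₂) ∈ Q'
    · have hs : (C s : M₂) ∉ Q' := fun hsQ => by
        have hX0 : (X 0 : M₂) ∈ Q' := by simpa using add_mem hl.1 hsQ
        have hX1 : (X 1 : M₂) ∈ Q' := by simpa using add_mem hl.2 hsQ
        obtain ⟨a, b, hab⟩ := exists_decomp_evs 0 h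
        rw [C_0, sub_zero, sub_zero] at hab
        have hmidQ : (C ((weilPoly ϖ).coeff D) : M₂) ∈ Q' := by
          have h1 : evs 0 h = (weilPoly ϖ).coeff D := by rw [hhdef, evs, eval00_hcan]
          rw [← h1, show C (evs 0 h) = h - (X 0 * a + X 1 * b) from eq_sub_of_add_eq' hab.symm]
          exact sub_mem hh' (add_mem (Ideal.mul_mem_right _ _ hX0) (Ideal.mul_mem_right _ _ hX1))
        have hpQ : (C (p : ℤ) : M₂) ∈ Q' := by
          refine ‹Q'.IsPrime›.mem_of_pow_mem e ?_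
          rw [← C_pow, ← hqp, ← hsq, C_pow]
          exact Ideal.pow_mem_of_mem _ hsQ 2 two_pos
        obtain ⟨u, v, huv⟩ := ((Nat.prime_iff_prime_int.1 (Fact.out : p.Prime)).coprime_iff_not_dvd).2 hmid
        refine ‹Q'.IsPrime›.ne_top ((Ideal.eq_top_iff_one _).2 ?_)
        rw [← C_1 (σ := Fin 2), ← huv, C_add, C_mul, C_mul]
        exact add_mem (Ideal.mul_mem_left _ _ hpQ) (Ideal.mul_mem_left _ _ hmidQ)
      have hX0 : IsUnit (ψ (X 0)) := hunit _ fun hX => hs (by simpa using sub_mem hX hl.1)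
      refine ⟨fq q, h * (X 0 - C s), isWeaklyRegular_of_psi_ne_zero hq ?_, hK _ (by simp), Ideal.mul_mem_right _ _ hh', le_antisymm ?_ ?_⟩
      · rw [map_mul]
        refine mul_ne_zero (psi_ne_zero hq (monic_weilPoly ϖ hint).ne_zero hhh) ?_
        rw [show (X 0 - C s : M₂) = ofX (Polynomial.X - Polynomial.C s) by simp [ofX], psi_ofX, Ne,
          map_eq_zero_iff _ (RatFunc.algebraMap_injective ℚ), Polynomial.map_eq_zero_iff (RingHom.injective_int _)]
        exact Polynomial.X_sub_C_ne_zero s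
      · rw [hset3]; refine hle fun x hx => ?_
        simp only [List.mem_cons, List.not_mem_nil, or_false] at hx
        rcases hx with rfl | rfl | rfl
        · exact hmem (by simp)
        · exact hmem (by simp)
        · exact hmem' hX0 (Ideal.mem_span_pair.2 ⟨h, -C s, by rw [fq, ← hsq, C_pow]; ring⟩)
      · rw [hset2]; refine hle fun x hx => ?_
        simp only [List.mem_cons, List.not_mem_nil, or_false] at hx
        rcases hx with rfl | rfl <;> exact hmem (by simp)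
    · refine ⟨fq q, h, isWeaklyRegular hq (monic_weilPoly ϖ hint).ne_zero h hhh, hK _ (by simp), hh', le_antisymm ?_ ?_⟩
      · rw [hset3]; refine hle fun x hx => ?_
        simp only [List.mem_cons, List.not_mem_nil, or_false] at hx
        rcases hx with rfl | rfl | rfl
        · exact hmem (by simp)
        · rw [map_mul]; exact Ideal.mul_mem_right _ _ (hmem (by simp))
        · rw [map_mul]; exact Ideal.mul_mem_right _ _ (hmem (by simp))
      · rw [hset2]; refine hle fun x hx => ?_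
        simp only [List.mem_cons, List.not_mem_nil, or_false] at hx
        rcases hx with rfl | rfl
        · exact hmem (by simp)
        · rcases not_and_or.1 hl with hl | hl
          · exact hmem' (hunit _ hl) (Ideal.subset_span (by simp [mul_comm]))
          · exact hmem' (hunit _ hl) (Ideal.subset_span (by simp [mul_comm]))
  · have hl : ∀ y, h * y ∈ Q' → y ∈ Q' := fun y hy => (‹Q'.IsPrime›.mem_or_mem hy).resolve_left hh'
    refine ⟨X 0 - C s, X 1 - C s, isWeaklyRegular_lines s, hl _ (hK _ (by simp)), hl _ (hK _ (by simp)), le_antisymm ?_ ?_⟩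
    · rw [hset3]; refine hle fun x hx => ?_
      simp only [List.mem_cons, List.not_mem_nil, or_false] at hx
      refine Ideal.mem_map_of_mem _ (Ideal.mem_span_pair.2 ?_)
      rcases hx with rfl | rfl | rfl
      · exact ⟨X 1, C s, by rw [fq, ← hsq, C_pow]; ring⟩
      · exact ⟨h, 0, by ring⟩
      · exact ⟨0, h, by ring⟩
    · rw [hset2]; refine hle fun x hx => ?_
      simp only [List.mem_cons, List.not_mem_nil, or_false] at hx
      rcases hx with rfl | rfl <;> exact hmem' (hunit _ hh') (Ideal.subset_span (by simp))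

end GrothLib.WeilOrd
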